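import Cfsg.Agent.Lib.Chev.E62Locals.Data
import Cfsg.Agent.Lib.Chev.E62Five.Cols

/-!
The checks on the certificate for the large primes in the twisted group of type E6 over four elements.
-/

set_option autoImplicit false
set_option maxRecDepth 100000
set_option maxHeartbeats 0

namespace CfsgLib.Chev.E62Locals

open CfsgLib.Chev.E6Form (monN)
open CfsgLib.Chev.E62Five (wordOK flipN)
open CfsgLib.Chev.E62Fi22 (colsL expand scRows)
open CfsgLib.KnownB.Fi22Mult.Rep (Vc vx wm app eqL)

/-- image of a vector under the map with the given columns, added to an accumulator; written with the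
recursor and the kernel's operations on numbers, to be quick to evaluate -/
noncomputable def appF (A : List Vc) : ℕ → ℕ → ℕ → ℕ → Vc :=
  List.rec (motive := fun _ => ℕ → ℕ → ℕ → ℕ → Vc) (fun _ _ x y => (x, y))
    (fun r _ ih a b x y =>
      Bool.rec
        (Bool.rec (ih (a / 2) (b / 2) x y)
          (ih (a / 2) (b / 2) (Nat.xor x r.2) (Nat.xor y (Nat.xor r.1 r.2))) (Nat.beq (b % 2) 1))
        (Bool.rec (ih (a / 2) (b / 2) (Nat.xor x r.1) (Nat.xor y r.2))
          (ih (a / 2) (b / 2) (Nat.xor x (Nat.xor r.1 r.2)) (Nat.xor y r.1)) (Nat.beq (b % 2) 1))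
        (Nat.beq (a % 2) 1)) A

/-- a product of matrices given by columns -/
noncomputable def mulC (A B : List Vc) : List Vc := B.map fun v => appF A v.1 v.2 0 0

/-- multiplication by a scalar code -/
def scV : ℕ → Vc → Vc
  | 0, _ => (0, 0)
  | 1, v => v
  | 2, v => wm v
  | _, v => wm (wm v)

/-- a table entry -/
def tabC (k : ℕ) : List Vc := tab.getD k (scRows id)

/-- a sum of matrices -/
def sumC : List (List Vc) → List Vc
  | [] => scRows fun _ => (0, 0)
  | A :: L => List.zipWith vx A (sumC L)

/-- the low twenty-seven bits differ -/
def neqV (u v : Vc) : Bool :=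
  !(Nat.beq (u.1 % 134217728) (v.1 % 134217728) && Nat.beq (u.2 % 134217728) (v.2 % 134217728))

/-- the matrices differ in some entry -/
def neqC (A B : List Vc) : Bool :=
  (List.range 27).any fun k => neqV (A.getD k (0, 0)) (B.getD k (0, 0))

/-- the words are words in the twisted generators -/
def wordsOK : Bool :=
  (genW.all fun W => W.all wordOK) && (witW.all fun W => W.all wordOK) && (outL.all fun l => wordOK [l]) &&
    Nat.beq genW.length 6 && Nat.beq witW.length 13 && Nat.beq outL.length 13 &&
    (tab.all fun M => Nat.beq M.length 27) && (witM.all fun M => Nat.beq M.length 27) &&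
    (kTab.all fun M => Nat.beq M.length 27) && (jTab.all fun M => Nat.beq M.length 27)

theorem wordsOK_true : wordsOK = true := by decide +kernel

/-- the matrix of a letter -/
def letC (l : ℕ × ℕ) : List Vc :=
  letM.getD (bif Nat.blt l.1 4 then l.1 else 4 + 3 * (l.1 - 4) + (l.2 - 1)) (scRows id)

theorem letC_true : (CfsgLib.Chev.E62Five.letters.all fun l => eqL (colsL (expand l)) (letC l)) = true := by
  decide +kernel

/-- the product of a list of matrices -/
noncomputable def prodL : List (List Vc) → List Vc
  | [] => scRows id
  | M :: Ms => mulC M (prodL Ms)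

/-- the product of the pieces, each with its matrix -/
noncomputable def piecesOK : List (List (ℕ × ℕ)) → List (List Vc) → Bool
  | [], [] => true
  | W :: Ws, M :: Ms => eqL (prodL (W.map letC)) M && piecesOK Ws Ms
  | _, _ => false

/-- where a generator stands in the table -/
def genIdx (g : ℕ) : ℕ := [1, 18, 29, 42, 67, 61].getD g 0

/-- a generator is its scaled word -/
noncomputable def genOK (g : ℕ) : Bool :=
  eqL ((prodL (genCM.getD g [])).map (scV (genS.getD g 0))) (tabC (genIdx g)) &&
    Nat.blt 0 (genS.getD g 0) && Nat.blt (genS.getD g 0) 4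

theorem gens_true : ((List.range 6).all genOK) = true := by decide +kernel

/-- the powers of a cyclic generator -/
noncomputable def powOK (g : ℕ) : Bool :=
  let o := offs.getD g 0
  let p := genP.getD g 0
  Nat.beq (o + 1) (genIdx g) && eqL (tabC o) (scRows id) &&
    ((List.range (p - 1)).all fun k => eqL (mulC (tabC (o + 1)) (tabC (o + k))) (tabC (o + k + 1))) &&
    eqL (mulC (tabC (o + 1)) (tabC (o + (p - 1)))) (scRows id)

theorem pows_true : ((List.range 4).all powOK) = true := by decide +kernel

/-- the group of order forty-nine -/
noncomputable def sevenOK : Bool :=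
  eqL (tabC 60) (scRows id) &&
    ((List.range 6).all fun i => eqL (mulC (tabC 67) (tabC (60 + 7 * i))) (tabC (60 + 7 * (i + 1)))) &&
    eqL (mulC (tabC 67) (tabC 102)) (scRows id) &&
    ((List.range 6).all fun j => eqL (mulC (tabC 61) (tabC (60 + j))) (tabC (60 + (j + 1)))) &&
    eqL (mulC (tabC 61) (tabC 66)) (scRows id) &&
    ((List.range 7).all fun i => (List.range 7).all fun j =>
      eqL (mulC (tabC (60 + 7 * i)) (tabC (60 + j))) (tabC (60 + 7 * i + j))) &&
    eqL (mulC (tabC 67) (tabC 61)) (mulC (tabC 61) (tabC 67))

theorem seven_true : sevenOK = true := by decide +kernel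

/-- the exponent pairs of the eight lines -/
def lineE : List (ℕ × ℕ) := [(1, 0), (1, 1), (1, 2), (1, 3), (1, 4), (1, 5), (1, 6), (0, 1)]

/-- the shape of the lists of members -/
def membersOK : Bool :=
  decide (members = [List.range' 0 17, List.range' 17 11, List.range' 28 13, List.range' 41 19,
    List.range' 60 49] ++ lineE.map fun e =>
      (List.range 7).map fun k => 60 + 7 * (k * e.1 % 7) + k * e.2 % 7)

theorem members_true : membersOK = true := by decide +kernel

/-- the matrices of the members -/
def membersC (c : ℕ) : List (List Vc) := (members.getD c []).map tabC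

theorem nontrivial_true : ((List.range 109).all fun k =>
    [0, 17, 28, 41, 60].contains k || neqC (tabC k) (scRows id)) = true := by decide +kernel

/-- the invariant of a class -/
def invC (c : ℕ) : List (List Vc) := bif Nat.beq c 3 then jTab else [sumC (membersC c)]

/-- the preserving word commutes with the invariant and moves the subgroup -/
noncomputable def witOK (c : ℕ) : Bool :=
  let M := witM.getD c (scRows id)
  eqL (prodL (witCM.getD c [])) M &&
    ((invC c).all fun S => eqL (mulC M S) (mulC S M)) &&
    ((membersC c).all fun X => neqC (mulC M ((membersC c).getD 1 (scRows id))) (mulC X M))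

theorem wits_true : ((List.range 13).all witOK) = true := by decide +kernel

/-- the letter moves the invariant -/
noncomputable def outOK (c : ℕ) : Bool :=
  let L := letC (outL.getD c (0, 0))
  (invC c).all fun S => neqC (mulC L ((invC c).getD 0 (scRows id))) (mulC S L)

theorem outs_true : ((List.range 13).all outOK) = true := by decide +kernel

/-- the pairs of the polarised form at a basis vector -/
def qN (i : ℕ) : List (ℕ × ℕ) :=
  monN.flatMap fun m =>
    let a := m.1
    let b := m.2.1
    let c := m.2.2.1
    ([(a, b, c), (a, c, b), (b, a, c), (b, c, a), (c, a, b), (c, b, a)].filter fun t => Nat.beq t.1 i).map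
      fun t => t.2

theorem qTab_true : ((List.range 27).all fun i => decide (qN i = qTab.getD i [])) = true := by decide +kernel

/-- the product of two matrices of pairs -/
def joinP (L M : List (ℕ × ℕ)) : List (ℕ × ℕ) :=
  L.flatMap fun e => (M.filter fun f => Nat.beq f.1 e.2).map fun f => (e.1, f.2)

/-- the pairs of a row and column of the operator -/
def opPairs (i j : ℕ) : List (ℕ × ℕ) :=
  joinP ((qTab.getD (flipN i) []).map fun e => (flipN e.1, e.2)) ((qTab.getD j []).map fun e => (flipN e.1, e.2))

/-- an entry as two bits -/
def entryC (A : List Vc) (p k : ℕ) : Bool × Bool :=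
  ((A.getD k (0, 0)).1.testBit p, (A.getD k (0, 0)).2.testBit p)

/-- the sum of two entries -/
def xorP (a b : Bool × Bool) : Bool × Bool := (a.1 ^^ b.1, a.2 ^^ b.2)

/-- the sum of the entries at a list of pairs -/
def pairsEntry (X : List Vc) (L : List (ℕ × ℕ)) : Bool × Bool :=
  L.foldr (fun e r => xorP (entryC X e.2 e.1) r) (false, false)

/-- an entry of the operator of a matrix -/
def opEntry (X : List Vc) (i j : ℕ) : Bool × Bool := pairsEntry X (opPairs i j)

/-- the listed operators are those of the listed powers -/
def opOK : Bool :=
  (List.range 27).all fun i => (List.range 27).all fun j =>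
    (fun L => (List.range 9).all fun n =>
      decide (pairsEntry (tabC (41 + expQ.getD n 0)) L = entryC (kTab.getD n (scRows id)) i j)) (opPairs i j)

theorem ops_true : opOK = true := by decide +kernel

/-- the trace -/
def trC (A : List Vc) : Bool × Bool :=
  (List.range 27).foldr (fun k r => xorP (entryC A k k) r) (false, false)

theorem traces_true : ((List.range' 1 18).all fun u =>
    (trC (tabC (41 + u)) != trC (tabC 42)) || expQ.contains u) = true := by decide +kernel

/-- the terms of the invariant at an exponent -/
noncomputable def termsJ (n : ℕ) : List (List Vc) :=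
  (List.range 38).map fun t =>
    let P := tabC (41 + t % 19 * expQ.getD n 0 % 19)
    (bif Nat.blt t 19 then P else mulC P (kTab.getD n (scRows id))).map (scV (coefJ.getD t 0))

/-- the invariant at every admissible exponent is one of the three -/
noncomputable def jOK : Bool :=
  Nat.beq (expQ.getD 0 0) 1 && Nat.beq expQ.length 9 && eqL (sumC (termsJ 0)) (jTab.getD 0 []) &&
    ((List.range 9).all fun n => jTab.any fun J => eqL (sumC (termsJ n)) J) &&
    ((List.range 3).all fun k =>
      let J := jTab.getD k []
      eqL (mulC (mulC J J) (mulC J J)) (jTab.getD ((k + 1) % 3) []))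

theorem jOK_true : jOK = true := by decide +kernel

end CfsgLib.Chev.E62Locals
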