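import Cfsg.Agent.Lib.Chev.E62Five.Main

/-!
Lifts to the 27 coordinates of elements of the twisted group, and the criterion for a normalizer not to be
maximal: a set of matrices invariant under the normalizer, a word fixing it but not normalizing, and a
letter moving it.
-/

set_option autoImplicit false
set_option linter.unusedSectionVars false

namespace CfsgLib.Chev.E62Locals

open Cfsg.Lie Matrix CfsgLib.Chev CfsgLib.Chev.E6Form CfsgLib.Chev.E62Five

variable {K : Type*} [Field K] [CharP K 2] [Fintype K] {w : K} {R : E62Fi22.Rep K w}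

/-- the twisted group as a type -/
abbrev Tw (K : Type*) [Field K] : Type _ := ↥(twistedE6 K 2)

local notation "G₂" => Tw K

/-- a map keeping form and pairing above an element -/
def Lift (R : E62Fi22.Rep K w) (g : G₂) (M : GL ι K) : Prop :=
  M ∈ keepGroup (K := K) ∧ chiT R g = E62Fi22.pr M

theorem exists_lift' (hK : Fintype.card K = 4) (hw : w * w = w + 1) (R : E62Fi22.Rep K w) (g : G₂) :
    ∃ M, Lift R g M := by
  obtain ⟨h, M, hM, hv⟩ := exists_lift hK hw R g.2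
  exact ⟨M, hM, hv⟩

theorem Lift.one (R : E62Fi22.Rep K w) : Lift R 1 1 := ⟨one_mem _, by rw [map_one, map_one]⟩

theorem Lift.mul {g h : G₂} {M N : GL ι K} (hg : Lift R g M) (hh : Lift R h N) : Lift R (g * h) (M * N) :=
  ⟨mul_mem hg.1 hh.1, by rw [map_mul, map_mul, hg.2, hh.2]⟩

theorem Lift.inv {g : G₂} {M : GL ι K} (hg : Lift R g M) : Lift R g⁻¹ M⁻¹ :=
  ⟨inv_mem hg.1, by rw [map_inv, map_inv, hg.2]⟩

/-- two maps with one image and exponents prime to three agree -/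
theorem pr_unique (hK : Fintype.card K = 4) (hw : w * w = w + 1) {M N : GL ι K} {n : ℕ}
    (hn : Nat.Coprime n 3) (hM : M ^ n = 1) (hN : N ^ n = 1) (h : E62Fi22.pr M = E62Fi22.pr N) : M = N := by
  set z := M⁻¹ * N with hz
  have hzc : z ∈ Subgroup.center (GL ι K) := by
    rw [← E62Fi22.pr_eq_one, hz, map_mul, map_inv, h, inv_mul_cancel]
  have hzc' := Subgroup.mem_center_iff.1 hzc
  obtain ⟨d, hd⟩ : ∃ d : K, (z : Matrix ι ι K) = d • 1 :=
    E62Fi22.scalar_of_commute hw fun k _ _ => by rw [← Units.val_mul, ← hzc', Units.val_mul]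
  have hd0 : d ≠ 0 := fun h0 => by
    rw [h0, zero_smul] at hd
    exact one_ne_zero (α := Matrix ι ι K) (by rw [← z.mul_inv, hd, zero_mul])
  have hNe : N = M * z := by rw [hz, mul_inv_cancel_left]
  have hzn : z ^ n = 1 := by
    rw [hNe, (Commute.mul_pow (hzc' M) n : (M * z) ^ n = M ^ n * z ^ n), hM, one_mul] at hN
    exact hN
  have hdn : d ^ n = 1 := by
    have e := congrArg (fun g : GL ι K => (g : Matrix ι ι K) (cd 0) (cd 0)) hzn
    simpa [Units.val_pow_eq_pow_val, hd, smul_pow] using e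
  have hd1 : d = 1 := by
    have := (pow_gcd_eq_one.2 ⟨hdn, cube_one hK hd0⟩ : d ^ Nat.gcd n 3 = 1)
    rwa [hn.gcd_eq_one, pow_one] at this
  have hz1 : z = 1 := Units.ext (by rw [hd, hd1, one_smul, Units.val_one])
  rw [hNe, hz1, mul_one]

/-- conjugation of matrices -/
def cjg (M : GL ι K) (X : Matrix ι ι K) : Matrix ι ι K :=
  (M : Matrix ι ι K) * X * ((M⁻¹ : GL ι K) : Matrix ι ι K)

theorem cjg_mul (M N : GL ι K) (X : Matrix ι ι K) : cjg (M * N) X = cjg M (cjg N X) := by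
  simp [cjg, _root_.mul_inv_rev, Matrix.mul_assoc]

theorem cjg_one (X : Matrix ι ι K) : cjg (1 : GL ι K) X = X := by simp [cjg]

theorem cjg_inj (M : GL ι K) : Function.Injective (cjg M) := fun X Y h => by
  rw [← cjg_one X, ← cjg_one Y, ← inv_mul_cancel M, cjg_mul, cjg_mul, h]

theorem cjg_central {z : GL ι K} (hz : z ∈ Subgroup.center (GL ι K)) (hw : w * w = w + 1)
    (X : Matrix ι ι K) : cjg z X = X := by
  obtain ⟨d, hd⟩ : ∃ d : K, (z : Matrix ι ι K) = d • 1 :=
    E62Fi22.scalar_of_commute hw fun k _ _ => by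
      rw [← Units.val_mul, ← Subgroup.mem_center_iff.1 hz, Units.val_mul]
  have e : (z : Matrix ι ι K) * X = X * (z : Matrix ι ι K) := by
    rw [hd, Matrix.smul_mul, Matrix.one_mul, Matrix.mul_smul, Matrix.mul_one]
  rw [cjg, e, Matrix.mul_assoc, Units.mul_inv, Matrix.mul_one]

theorem cjg_of_pr (hw : w * w = w + 1) {M N : GL ι K} (h : E62Fi22.pr M = E62Fi22.pr N)
    (X : Matrix ι ι K) : cjg M X = cjg N X := by
  have hz : N⁻¹ * M ∈ Subgroup.center (GL ι K) := by
    rw [← E62Fi22.pr_eq_one, map_mul, map_inv, h, inv_mul_cancel]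
  rw [← mul_inv_cancel_left N M, cjg_mul, cjg_central hz hw]

theorem cjg_coe (M X : GL ι K) : cjg M (X : Matrix ι ι K) = ((M * X * M⁻¹ : GL ι K) : Matrix ι ι K) := rfl

/-- the elements with a lift permuting a set of matrices -/
def stabSet (R : E62Fi22.Rep K w) (S : Set (Matrix ι ι K)) : Subgroup G₂ where
  carrier := {g | ∃ M, Lift R g M ∧ cjg M '' S = S}
  one_mem' := ⟨1, Lift.one R, by simp [funext cjg_one]⟩
  mul_mem' := by
    rintro g h ⟨M, hM, eM⟩ ⟨N, hN, eN⟩
    refine ⟨M * N, hM.mul hN, ?_⟩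
    rw [funext (cjg_mul M N), show (fun X => cjg M (cjg N X)) = cjg M ∘ cjg N from rfl, Set.image_comp, eN, eM]
  inv_mem' := by
    rintro g ⟨M, hM, eM⟩
    refine ⟨M⁻¹, hM.inv, ?_⟩
    conv_lhs => rw [← eM]
    rw [← Set.image_comp]
    convert Set.image_id S using 2
    funext X
    simp [← cjg_mul, cjg_one]

/-- a subgroup and the list of its exact lifts -/
structure Covers (R : E62Fi22.Rep K w) (P : Subgroup G₂) (T : List (GL ι K)) (n : ℕ) : Prop where
  coprime : Nat.Coprime n 3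
  pow : ∀ X ∈ T, X ^ n = 1
  lift : ∀ y ∈ P, ∃ X ∈ T, chiT R y = E62Fi22.pr X
  mem : ∀ X ∈ T, ∃ y ∈ P, chiT R y = E62Fi22.pr X

theorem Covers.conj (hK : Fintype.card K = 4) (hw : w * w = w + 1) {P : Subgroup G₂} {T : List (GL ι K)}
    {n : ℕ} (hC : Covers R P T n) {g : G₂} (hg : g ∈ Subgroup.normalizer (P : Set G₂)) {M : GL ι K}
    (hM : Lift R g M) : ∀ X ∈ T, M * X * M⁻¹ ∈ T := by
  intro X hX
  obtain ⟨y, hy, e⟩ := hC.mem X hX
  have hy' : g * y * g⁻¹ ∈ P := by
    have := (Subgroup.mem_normalizer_iff.1 hg y).1 hy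
    exact this
  obtain ⟨Y, hY, e'⟩ := hC.lift _ hy'
  have : M * X * M⁻¹ = Y := by
    refine pr_unique hK hw hC.coprime (by rw [conj_pow, hC.pow X hX]; simp) (hC.pow Y hY) ?_
    rw [← e', map_mul, map_mul, map_inv, map_mul, map_mul, map_inv, hM.2, e]
  rw [this]
  exact hY

/-- the criterion -/
theorem not_coatom (hK : Fintype.card K = 4) (hw : w * w = w + 1) {P : Subgroup G₂} {T : List (GL ι K)}
    {n : ℕ} (hC : Covers R P T n) (S : Set (Matrix ι ι K))
    (hinv : ∀ M ∈ keepGroup (K := K), (∀ X ∈ T, M * X * M⁻¹ ∈ T) → cjg M '' S = S)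
    (W : List (ℕ × ℕ)) (hW : wordOK W = true)
    (hWS : ∀ X ∈ S, (E62Fi22.elemL w (W.flatMap E62Fi22.expand) : Matrix ι ι K) * X =
      X * (E62Fi22.elemL w (W.flatMap E62Fi22.expand) : Matrix ι ι K))
    (hWT : ∃ X ∈ T, ∀ Y ∈ T, (E62Fi22.elemL w (W.flatMap E62Fi22.expand) : Matrix ι ι K) * (X : Matrix ι ι K) ≠
      (Y : Matrix ι ι K) * (E62Fi22.elemL w (W.flatMap E62Fi22.expand) : Matrix ι ι K))
    (L : List (ℕ × ℕ)) (hL : wordOK L = true) (X₀ : Matrix ι ι K) (hX₀ : X₀ ∈ S)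
    (hLS : ∀ Y ∈ S, (E62Fi22.elemL w (L.flatMap E62Fi22.expand) : Matrix ι ι K) * X₀ ≠
      Y * (E62Fi22.elemL w (L.flatMap E62Fi22.expand) : Matrix ι ι K)) :
    ¬ IsCoatom (Subgroup.normalizer (P : Set G₂)) := by
  intro hco
  have hle : Subgroup.normalizer (P : Set G₂) ≤ stabSet R S := fun g hg => by
    obtain ⟨M, hM⟩ := exists_lift' hK hw R g
    exact ⟨M, hM, hinv M hM.1 (hC.conj hK hw hg hM)⟩
  obtain ⟨h, hh⟩ := word_elem hw R hW
  obtain ⟨l, hl⟩ := word_elem hw R hL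
  set A := E62Fi22.elemL w (W.flatMap E62Fi22.expand)
  set B := E62Fi22.elemL w (L.flatMap E62Fi22.expand)
  have hA : Lift R h A := ⟨keep_word hw hW, hh⟩
  have hmem : h ∈ stabSet R S := by
    refine ⟨A, hA, ?_⟩
    have e : ∀ X ∈ S, cjg A X = X := fun X hX => by
      rw [cjg, hWS X hX, Matrix.mul_assoc, Units.mul_inv, Matrix.mul_one]
    rw [Set.image_congr e, Set.image_id']
  have hout : h ∉ Subgroup.normalizer (P : Set G₂) := fun hn => by
    obtain ⟨X, hX, hne⟩ := hWT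
    refine hne (A * X * A⁻¹) (hC.conj hK hw hn hA X hX) ?_
    rw [Units.val_mul, Units.val_mul, Matrix.mul_assoc, Units.inv_mul, Matrix.mul_one]
  have hlt : Subgroup.normalizer (P : Set G₂) < stabSet R S := lt_of_le_of_ne hle fun e => hout (e ▸ hmem)
  have htop := hco.2 _ hlt
  obtain ⟨M, hM, hMS⟩ : l ∈ stabSet R S := by rw [htop]; exact Subgroup.mem_top _
  have hm : cjg B X₀ ∈ S := by
    rw [← cjg_of_pr hw (hM.2.symm.trans hl) X₀]
    exact hMS ▸ Set.mem_image_of_mem _ hX₀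
  refine hLS _ hm ?_
  rw [cjg, Matrix.mul_assoc, Units.inv_mul, Matrix.mul_one]

end CfsgLib.Chev.E62Locals
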