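import Cfsg.Agent.Lib.Chev.E62Locals.Sound
import Cfsg.Agent.Lib.Chev.E62Locals.Stab

/-!
The generators of the Sylow subgroups, the tables of their products as maps, and the two kinds of invariant.
-/

set_option autoImplicit false
set_option linter.unusedSectionVars false

namespace CfsgLib.Chev.E62Locals

open Cfsg.Lie Matrix CfsgLib.Chev CfsgLib.Chev.E6Form CfsgLib.Chev.E62Five
open CfsgLib.Chev.E62Fi22 (matOf scRows expand elemL)
open CfsgLib.KnownB.Fi22Mult.Rep (Vc app eqL eqL_sound)

variable {K : Type*} [Field K] [CharP K 2] [Fintype K] {w : K}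

theorem lengths :
    (∀ M ∈ tab, M.length = 27) ∧ (∀ M ∈ witM, M.length = 27) ∧ (∀ M ∈ kTab, M.length = 27) ∧
      ∀ M ∈ jTab, M.length = 27 := by
  have h := wordsOK_true
  simp only [wordsOK, Bool.and_eq_true, List.all_eq_true, Nat.beq_eq_true_eq] at h
  exact ⟨fun M hM => Nat.eq_of_beq_eq_true (by simpa using h.1.1.1.2 M hM),
    fun M hM => Nat.eq_of_beq_eq_true (by simpa using h.1.1.2 M hM),
    fun M hM => Nat.eq_of_beq_eq_true (by simpa using h.1.2 M hM),
    fun M hM => Nat.eq_of_beq_eq_true (by simpa using h.2 M hM)⟩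

theorem getD_len {L : List (List Vc)} (hL : ∀ M ∈ L, M.length = 27) (k : ℕ) :
    (L.getD k (scRows id)).length = 27 := by
  rcases lt_or_ge k L.length with h | h
  · rw [List.getD_eq_getElem?_getD, List.getElem?_eq_getElem h, Option.getD_some]
    exact hL _ (List.getElem_mem h)
  · rw [List.getD_eq_getElem?_getD, List.getElem?_eq_none h]
    exact E62Fi22.len_scRows id

theorem len_tabC (k : ℕ) : (tabC k).length = 27 := getD_len lengths.1 k

theorem len_letC (l : ℕ × ℕ) : (letC l).length = 27 :=
  getD_len (fun M hM => Nat.eq_of_beq_eq_true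
    (List.all_eq_true.1 (show (letM.all fun M => Nat.beq M.length 27) = true by decide +kernel) M hM)) _

theorem mem_letters {l : ℕ × ℕ} (h : wordOK [l] = true) : l ∈ E62Five.letters := by
  simp only [wordOK, List.all_cons, List.all_nil, Bool.and_eq_true, Bool.and_true, Nat.blt_eq,
    Bool.or_eq_true, Nat.ble_eq, Nat.beq_eq_true_eq] at h
  obtain ⟨⟨⟨⟨h1, h2⟩, h3⟩, h4⟩, -⟩ := h
  obtain ⟨a, b⟩ := l
  simp only at h1 h2 h3 h4
  interval_cases a <;> interval_cases b <;> first | decide | omega | (simp at h4 ⊢)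

theorem letter_val (hw : w * w = w + 1) {l : ℕ × ℕ} (h : wordOK [l] = true) :
    ((elemL w (expand l) : GL ι K) : Matrix ι ι K) = matOf w (letC l) := by
  rw [E62Fi22.elemL_val hw _ (mem_roots h),
    eqL_sound (List.all_eq_true.1 letC_true l (mem_letters h))]

theorem wordOK_cons {l : ℕ × ℕ} {W : List (ℕ × ℕ)} (h : wordOK (l :: W) = true) :
    wordOK [l] = true ∧ wordOK W = true := by
  simp only [wordOK, List.all_cons, List.all_nil, List.flatMap_cons, List.flatMap_nil, List.all_append,
    List.append_nil, Bool.and_eq_true, Bool.and_true] at h ⊢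
  exact ⟨⟨h.1.1, h.2.1⟩, h.1.2, h.2.2⟩

theorem word_val (hw : w * w = w + 1) : ∀ W : List (ℕ × ℕ), wordOK W = true →
    ((elemL w (W.flatMap expand) : GL ι K) : Matrix ι ι K) = matOf w (prodL (W.map letC))
  | [], _ => by rw [List.map_nil, prodL, E62Fi22.matOf_id]; rfl
  | l :: W, h => by
    obtain ⟨h1, h2⟩ := wordOK_cons h
    rw [List.map_cons, prodL, matOf_mulC hw (len_letC l) (len_prodL _), ← word_val hw W h2, ← letter_val hw h1,
      List.flatMap_cons, E62Fi22.elemL, List.map_append, List.prod_append, Units.val_mul]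
    rfl

theorem pieces_val (hw : w * w = w + 1) : ∀ (Ws : List (List (ℕ × ℕ))) (Ms : List (List Vc)),
    piecesOK Ws Ms = true → (Ws.all wordOK) = true →
      ((elemL w (Ws.flatten.flatMap expand) : GL ι K) : Matrix ι ι K) = matOf w (prodL Ms) ∧
        wordOK Ws.flatten = true
  | [], [], _, _ => ⟨by rw [prodL, E62Fi22.matOf_id]; rfl, rfl⟩
  | [], _ :: _, h, _ => by simp [piecesOK] at h
  | _ :: _, [], h, _ => by simp [piecesOK] at h
  | W :: Ws, M :: Ms, h, h' => by
    simp only [piecesOK, Bool.and_eq_true] at h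
    simp only [List.all_cons, Bool.and_eq_true] at h'
    obtain ⟨ih, ihw⟩ := pieces_val hw Ws Ms h.2 h'.2
    have hM : M = prodL (W.map letC) := (eqL_sound h.1).symm
    refine ⟨?_, ?_⟩
    · rw [List.flatten_cons, List.flatMap_append, E62Fi22.elemL, List.map_append, List.prod_append,
        Units.val_mul, prodL, matOf_mulC hw (by rw [hM]; exact len_prodL _) (len_prodL _), hM,
        ← word_val hw W h'.1, ← ih]
      rfl
    · simp only [List.flatten_cons, wordOK, List.all_append, List.flatMap_append, Bool.and_eq_true] at ihw h' ⊢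
      exact ⟨⟨h'.1.1, ihw.1⟩, h'.1.2, ihw.2⟩

theorem genW_ok {g : ℕ} (hg : g < 6) : ((genW.getD g []).all wordOK) = true := by
  interval_cases g <;> decide +kernel

theorem witW_ok {c : ℕ} (hc : c < 13) : ((witW.getD c []).all wordOK) = true := by
  interval_cases c <;> decide +kernel

/-- the word of a generator -/
noncomputable def genU (w : K) (g : ℕ) : GL ι K := elemL w ((genW.getD g []).flatten.flatMap expand)

/-- the word preserving an invariant -/
noncomputable def witU (w : K) (c : ℕ) : GL ι K := elemL w ((witW.getD c []).flatten.flatMap expand)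

theorem wit_val (hw : w * w = w + 1) {c : ℕ} (hc : c < 13) :
    wordOK (witW.getD c []).flatten = true ∧
      ((witU w c : GL ι K) : Matrix ι ι K) = matOf w (witM.getD c (scRows id)) := by
  obtain ⟨h1, h2⟩ := pieces_val (K := K) hw _ _
    (List.all_eq_true.1 witPieces_true c (List.mem_range.2 hc)) (witW_ok hc)
  have h := List.all_eq_true.1 wits_true c (List.mem_range.2 hc)
  simp only [witOK, Bool.and_eq_true] at h
  exact ⟨h2, by rw [witU, h1, eqL_sound h.1.1]⟩

theorem exists_gen (hK : Fintype.card K = 4) (hw : w * w = w + 1) (R : E62Fi22.Rep K w) {g : ℕ} (hg : g < 6) :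
    ∃ (x : Tw K) (Z : GL ι K), chiT R x = E62Fi22.pr Z ∧
      (Z : Matrix ι ι K) = matOf w (tabC (genIdx g)) := by
  obtain ⟨h1, h2⟩ := pieces_val (K := K) hw _ _
    (List.all_eq_true.1 genPieces_true g (List.mem_range.2 hg)) (genW_ok hg)
  obtain ⟨x, hx⟩ := word_elem hw R h2
  have h := List.all_eq_true.1 gens_true g (List.mem_range.2 hg)
  simp only [genOK, Bool.and_eq_true, Nat.blt_eq] at h
  obtain ⟨⟨h3, hs0⟩, hs4⟩ := h
  have hw0 : w ≠ 0 := by
    intro e
    rw [e] at hw
    simp at hw
  have ht : E62Fi22.tval w (genS.getD g 0) ≠ 0 := by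
    obtain ⟨-, t1, t2, t3⟩ := tval_codes w
    have : genS.getD g 0 = 1 ∨ genS.getD g 0 = 2 ∨ genS.getD g 0 = 3 := by omega
    rcases this with e | e | e <;> rw [e]
    · rw [t1]; exact one_ne_zero
    · rw [t2]; exact hw0
    · rw [t3, ← hw]; exact mul_ne_zero hw0 hw0
  set t := E62Fi22.tval w (genS.getD g 0) with htdef
  let s : GL ι K :=
    ⟨t • 1, t⁻¹ • 1, by rw [smul_mul_smul_comm, one_mul, mul_inv_cancel₀ ht, one_smul],
      by rw [smul_mul_smul_comm, one_mul, inv_mul_cancel₀ ht, one_smul]⟩
  have hs : s ∈ Subgroup.center (GL ι K) := E62Fi22.central_of_scalar (d := t) rfl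
  refine ⟨x, s * genU w g, ?_, ?_⟩
  · rw [hx, map_mul, E62Fi22.pr_eq_one.2 hs, one_mul]
    rfl
  · rw [← eqL_sound h3, matOf_scV hw hs4 (len_prodL _), ← h1, ← htdef, Units.val_mul]
    show (t • (1 : Matrix ι ι K)) * (genU w g : Matrix ι ι K) = _
    rw [Matrix.smul_mul, Matrix.one_mul]
    rfl

/-- conjugation respects sums, products, scalars and powers -/
theorem cjg_add (M : GL ι K) (X Y : Matrix ι ι K) : cjg M (X + Y) = cjg M X + cjg M Y := by
  simp [cjg, Matrix.mul_add, Matrix.add_mul]

theorem cjg_smul (M : GL ι K) (t : K) (X : Matrix ι ι K) : cjg M (t • X) = t • cjg M X := by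
  simp [cjg]

theorem cjg_pmul (M : GL ι K) (X Y : Matrix ι ι K) : cjg M (X * Y) = cjg M X * cjg M Y := by
  simp only [cjg, Matrix.mul_assoc]
  rw [← Matrix.mul_assoc ((M⁻¹ : GL ι K) : Matrix ι ι K) (M : Matrix ι ι K), Units.inv_mul, Matrix.one_mul]

theorem cjg_sum (M : GL ι K) : ∀ L : List (Matrix ι ι K), cjg M L.sum = (L.map (cjg M)).sum
  | [] => by simp [cjg]
  | X :: L => by rw [List.sum_cons, cjg_add, cjg_sum M L, List.map_cons, List.sum_cons]

/-- a list permuted by conjugation has a fixed sum -/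
theorem sum_fixed {M : GL ι K} {T : List (GL ι K)} (hnd : T.Nodup) (h : ∀ X ∈ T, M * X * M⁻¹ ∈ T) :
    cjg M (T.map Units.val).sum = (T.map Units.val).sum := by
  have hnd' : (T.map fun X => M * X * M⁻¹).Nodup :=
    hnd.map fun X Y e => mul_left_cancel (mul_right_cancel e)
  have hp : (T.map fun X => M * X * M⁻¹).Perm T :=
    (hnd'.subperm fun X hX => by
      obtain ⟨Y, hY, rfl⟩ := List.mem_map.1 hX
      exact h Y hY).perm_of_length_le (by rw [List.length_map])
  rw [cjg_sum, List.map_map]
  calc (T.map (cjg M ∘ Units.val)).sum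
      = ((T.map fun X => M * X * M⁻¹).map Units.val).sum := by
        rw [List.map_map]
        rfl
    _ = _ := (hp.map _).sum_eq

theorem membersC_len (c : ℕ) : ∀ M ∈ membersC c, M.length = 27 := fun M hM => by
  obtain ⟨k, -, rfl⟩ := List.mem_map.1 hM
  exact len_tabC k

/-- the certificate of a class of subgroups with the invariant given by the sum -/
theorem case_sum (hK : Fintype.card K = 4) (hw : w * w = w + 1) {R : E62Fi22.Rep K w} {c : ℕ} (hc : c < 13)
    (hc3 : c ≠ 3) {P : Subgroup (Tw K)} {T : List (GL ι K)} {n : ℕ} (hC : Covers R P T n) (hnd : T.Nodup)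
    (hval : T.map Units.val = (membersC c).map (matOf w)) :
    ¬ IsCoatom (Subgroup.normalizer (P : Set (Tw K))) := by
  have hinvC : invC c = [sumC (membersC c)] := by
    rw [invC, show Nat.beq c 3 = false from Bool.eq_false_iff.2 fun e => hc3 (Nat.eq_of_beq_eq_true e)]
    rfl
  obtain ⟨hW, hA⟩ := wit_val (K := K) hw hc
  have hw1 := List.all_eq_true.1 wits_true c (List.mem_range.2 hc)
  simp only [witOK, hinvC, Bool.and_eq_true, List.all_cons, List.all_nil, and_true] at hw1
  obtain ⟨⟨-, hcomm⟩, hmove⟩ := hw1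
  have hout := List.all_eq_true.1 outs_true c (List.mem_range.2 hc)
  simp only [outOK, hinvC, List.all_cons, List.all_nil, Bool.and_true, List.getD_cons_zero] at hout
  set E := (T.map Units.val).sum with hE
  have hEv : E = matOf w (sumC (membersC c)) := by rw [matOf_sumC _ (membersC_len c), hE, hval]
  have hlS : (sumC (membersC c)).length = 27 := len_sumC _ (membersC_len c)
  have hlW : (witM.getD c (scRows id)).length = 27 := getD_len lengths.2.1 c
  have hL : wordOK [outL.getD c (0, 0)] = true := by interval_cases c <;> decide +kernel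
  have hTm : ∀ Y ∈ T, ∃ C ∈ membersC c, (Y : Matrix ι ι K) = matOf w C := fun Y hY => by
    obtain ⟨C, hC', e⟩ := List.mem_map.1 (hval ▸ List.mem_map_of_mem hY :
      (Y : Matrix ι ι K) ∈ (membersC c).map (matOf w))
    exact ⟨C, hC', e.symm⟩
  refine not_coatom hK hw hC {E} (fun M _ h => ?_) _ hW (fun X hX => ?_) ?_ [outL.getD c (0, 0)] hL E rfl
    fun Y hY => ?_
  · rw [Set.image_singleton, sum_fixed hnd h]
  · obtain rfl := hX
    show (witU w c : Matrix ι ι K) * E = E * (witU w c : Matrix ι ι K)
    rw [hA, hEv, ← matOf_mulC hw hlW hlS, ← matOf_mulC hw hlS hlW, eqL_sound hcomm]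
  · have hlen : 1 < (membersC c).length := by interval_cases c <;> decide +kernel
    have hlT : 1 < T.length := by
      have := congrArg List.length hval
      rw [List.length_map, List.length_map] at this
      omega
    refine ⟨T[1], List.getElem_mem hlT, fun Y hY => ?_⟩
    obtain ⟨C, hC', eY⟩ := hTm Y hY
    have e1 : (T[1] : Matrix ι ι K) = matOf w ((membersC c).getD 1 (scRows id)) := by
      have := List.getElem_of_eq hval (i := 1) (by rw [List.length_map]; exact hlT)
      rw [List.getElem_map, List.getElem_map] at this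
      rw [this, List.getD_eq_getElem?_getD, List.getElem?_eq_getElem hlen, Option.getD_some]
    show (witU w c : Matrix ι ι K) * (T[1] : Matrix ι ι K) ≠ (Y : Matrix ι ι K) * (witU w c : Matrix ι ι K)
    rw [hA, e1, eY, ← matOf_mulC hw hlW (getD_len (membersC_len c) 1),
      ← matOf_mulC hw (membersC_len c C hC') hlW]
    exact neqC_sound hw (List.all_eq_true.1 hmove C hC')
  · obtain rfl := hY
    simp only [List.flatMap_cons, List.flatMap_nil, List.append_nil]
    rw [letter_val hw hL, hEv, ← matOf_mulC hw (len_letC _) hlS, ← matOf_mulC hw hlS (len_letC _)]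
    exact neqC_sound hw hout

end CfsgLib.Chev.E62Locals
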