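import Cfsg.Agent.Lib.Chev.E62Five.Herm
import Cfsg.Agent.Lib.Chev.E62Five.Forms

/-!
An operator attached to a matrix by the cubic form and the hermitian pairing, carried along by every
map keeping both.
-/

set_option autoImplicit false
set_option linter.unusedSectionVars false

namespace CfsgLib.Chev.E62Locals

open Matrix CfsgLib.Chev.E6Form CfsgLib.Chev.E62Five

variable {K : Type*} [Field K]

theorem BL_add1 (L : List (ι × ι × ι × ℤ)) (x y v u : ι → K) :
    BL L (x + y) v u = BL L x v u + BL L y v u := by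
  induction L with
  | nil => simp [BL]
  | cons m L ih =>
    simp only [BL, List.map_cons, List.sum_cons, Pi.add_apply] at ih ⊢
    rw [ih]; ring

theorem BL_add2 (L : List (ι × ι × ι × ℤ)) (x y v u : ι → K) :
    BL L v (x + y) u = BL L v x u + BL L v y u := by
  induction L with
  | nil => simp [BL]
  | cons m L ih =>
    simp only [BL, List.map_cons, List.sum_cons, Pi.add_apply] at ih ⊢
    rw [ih]; ring

theorem BL_add3 (L : List (ι × ι × ι × ℤ)) (x y v u : ι → K) :
    BL L v u (x + y) = BL L v u x + BL L v u y := by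
  induction L with
  | nil => simp [BL]
  | cons m L ih =>
    simp only [BL, List.map_cons, List.sum_cons, Pi.add_apply] at ih ⊢
    rw [ih]; ring

/-- the bilinear form left by fixing one argument of the polarisation -/
def Qm (x : ι → K) : Matrix ι ι K := fun b c => QB x (bs K b) (bs K c)

theorem basis_sum (v : ι → K) : ∑ i, v i • bs K i = v := by
  funext j
  simp [Finset.sum_apply, Pi.single_apply]

theorem qb_fun1 (v u : ι → K) (f : ι → ι → K) (x : ι → K) :
    QB (∑ i, x i • f i) v u = ∑ i, x i * QB (f i) v u := by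
  have h : ∀ s : Finset ι, QB (∑ i ∈ s, x i • f i) v u = ∑ i ∈ s, x i * QB (f i) v u := by
    intro s
    induction s using Finset.cons_induction with
    | empty => simpa using BL_smul mon (0 : K) (bs K (cd 0)) v u
    | cons a s ha ih =>
      rw [Finset.sum_cons, Finset.sum_cons, ← ih]
      exact (BL_add1 mon _ _ v u).trans (by rw [BL_smul])
  exact h Finset.univ

theorem qb_fun2 (v u : ι → K) (f : ι → ι → K) (x : ι → K) :
    QB v (∑ i, x i • f i) u = ∑ i, x i * QB v (f i) u := by
  have h : ∀ s : Finset ι, QB v (∑ i ∈ s, x i • f i) u = ∑ i ∈ s, x i * QB v (f i) u := by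
    intro s
    induction s using Finset.cons_induction with
    | empty => simpa using BL_smul₂ mon (0 : K) v (bs K (cd 0)) u
    | cons a s ha ih =>
      rw [Finset.sum_cons, Finset.sum_cons, ← ih]
      exact (BL_add2 mon _ _ v u).trans (by rw [BL_smul₂])
  exact h Finset.univ

theorem qb_fun3 (v u : ι → K) (f : ι → ι → K) (x : ι → K) :
    QB v u (∑ i, x i • f i) = ∑ i, x i * QB v u (f i) := by
  have h : ∀ s : Finset ι, QB v u (∑ i ∈ s, x i • f i) = ∑ i ∈ s, x i * QB v u (f i) := by
    intro s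
    induction s using Finset.cons_induction with
    | empty => simpa using BL_smul₃ mon (0 : K) v u (bs K (cd 0))
    | cons a s ha ih =>
      rw [Finset.sum_cons, Finset.sum_cons, ← ih]
      exact (BL_add3 mon _ _ v u).trans (by rw [BL_smul₃])
  exact h Finset.univ

theorem qm_eval (x u v : ι → K) : QB x u v = ∑ b, ∑ c, u b * (v c * Qm x b c) := by
  conv_lhs => rw [← basis_sum u, qb_fun2]
  refine Finset.sum_congr rfl fun b _ => ?_
  conv_lhs => rw [← basis_sum v, qb_fun3, Finset.mul_sum]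
  rfl

theorem qm_sum (x : ι → K) : Qm x = ∑ i, x i • Qm (bs K i) := by
  ext b c
  simp only [Qm, Matrix.sum_apply, Matrix.smul_apply, smul_eq_mul]
  conv_lhs => rw [← basis_sum x, qb_fun1]

variable [CharP K 2] [Fintype K]

theorem qm_keep (hK : Fintype.card K = 4) {g : GL ι K} (hg : Keep g) (x : ι → K) :
    (g : Matrix ι ι K)ᵀ * Qm (ap g x) * (g : Matrix ι ι K) = Qm x := by
  ext a b
  rw [show Qm x a b = QB x (bs K a) (bs K b) from rfl, ← QB_inv (by omega) hg.1 x (bs K a) (bs K b),
    qm_eval, Finset.sum_comm]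
  rw [Matrix.mul_apply]
  refine Finset.sum_congr rfl fun j _ => ?_
  rw [Matrix.mul_apply, Finset.sum_mul]
  refine Finset.sum_congr rfl fun i _ => ?_
  simp only [ap, Matrix.mulVec_single, Matrix.transpose_apply]
  simp
  ring

/-- the permutation matrix of the pairing -/
def Fm : Matrix ι ι K := fun i j => if j = hflip i then 1 else 0

/-- the conjugate matrix -/
def cjM (M : Matrix ι ι K) : Matrix ι ι K := M.map (frobenius K 2)

theorem Fm_mul (A : Matrix ι ι K) (i j : ι) : ((Fm : Matrix ι ι K) * A) i j = A (hflip i) j := by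
  simp [Matrix.mul_apply, Fm]

theorem Fm_sq : (Fm : Matrix ι ι K) * Fm = 1 := by
  ext i j
  rw [Fm_mul, Fm, hflip_hflip, Matrix.one_apply]
  simp [eq_comm]

theorem cjM_mul (A B : Matrix ι ι K) : cjM (A * B) = cjM A * cjM B := by
  rw [cjM, Matrix.map_mul]
  rfl

theorem cjM_cjM (hK : Fintype.card K = 4) (A : Matrix ι ι K) : cjM (cjM A) = A := by
  ext i j
  show frobenius K 2 (frobenius K 2 (A i j)) = A i j
  rw [frobenius_def, frobenius_def, ← pow_mul, show 2 * 2 = Fintype.card K by omega, FiniteField.pow_card]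

theorem cjM_one : cjM (1 : Matrix ι ι K) = 1 := Matrix.map_one _ (map_zero _) (map_one _)

theorem cjM_Fm : cjM (Fm : Matrix ι ι K) = Fm := by
  ext i j
  show frobenius K 2 (Fm i j) = Fm i j
  unfold Fm
  split <;> simp

theorem keep_hermitian {g : GL ι K} (hg : Keep g) :
    (g : Matrix ι ι K)ᵀ * Fm * cjM (g : Matrix ι ι K) = Fm := by
  ext a b
  have h := hg.2 (bs K a) (bs K b)
  have e : Hf (bs K a) (bs K b) = (Fm : Matrix ι ι K) a b := by
    rw [Hf, Finset.sum_eq_single a (fun i _ hi => by simp [Pi.single_eq_of_ne hi])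
      (fun h => absurd (Finset.mem_univ a) h)]
    unfold Fm
    by_cases hb : b = hflip a
    · simp [hb]
    · simp [Pi.single_eq_of_ne (Ne.symm hb), hb]
  rw [← e, ← h, Matrix.mul_assoc, Matrix.mul_apply, Hf]
  refine Finset.sum_congr rfl fun i _ => ?_
  rw [Fm_mul, Matrix.transpose_apply]
  simp [ap, Matrix.mulVec_single, cjM, frobenius_def]

theorem keep_hermitian' (hK : Fintype.card K = 4) {g : GL ι K} (hg : Keep g) :
    (g : Matrix ι ι K) * Fm = Fm * (cjM ((g⁻¹ : GL ι K) : Matrix ι ι K))ᵀ ∧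
      cjM (g : Matrix ι ι K) * Fm = Fm * ((g⁻¹ : GL ι K) : Matrix ι ι K)ᵀ := by
  -- both come from the pairing and its conjugate for the inverse map
  have h := keep_hermitian hg
  set A : Matrix ι ι K := (g : Matrix ι ι K)
  set N : Matrix ι ι K := ((g⁻¹ : GL ι K) : Matrix ι ι K)
  have hAN : A * N = 1 := Units.mul_inv g
  have hNA : N * A = 1 := Units.inv_mul g
  have hFt : (Fm : Matrix ι ι K)ᵀ = Fm := by
    ext i j
    simp only [Matrix.transpose_apply, Fm]
    by_cases e : j = hflip i
    · rw [if_pos e, if_pos (by rw [e, hflip_hflip])]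
    · rw [if_neg e, if_neg fun e' => e (by rw [e', hflip_hflip])]
  have e2 : cjM A * Fm = Fm * Nᵀ := by
    calc cjM A * Fm = Fm * Fm * (cjM A * Fm) := by rw [Fm_sq, Matrix.one_mul]
      _ = Fm * (Nᵀ * Aᵀ) * Fm * (cjM A * Fm) := by rw [← Matrix.transpose_mul, hAN, Matrix.transpose_one, Matrix.mul_one]
      _ = Fm * (Nᵀ * (Aᵀ * Fm * cjM A) * Fm) := by simp only [Matrix.mul_assoc]
      _ = Fm * Nᵀ := by rw [h, Matrix.mul_assoc, Fm_sq, Matrix.mul_one]
  refine ⟨?_, e2⟩
  calc A * Fm = cjM (cjM A * Fm) := by rw [cjM_mul, cjM_cjM hK, cjM_Fm]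
    _ = Fm * (cjM N)ᵀ := by rw [e2, cjM_mul, cjM_Fm]; exact congrArg (Fm * ·) Matrix.transpose_map.symm

/-- the form of a matrix at two vectors -/
def formX (X : Matrix ι ι K) (x y : ι → K) : K := Matrix.trace (Fm * cjM (Qm x) * Fm * Qm y * X)

/-- the operator of a matrix -/
def kop (X : Matrix ι ι K) : Matrix ι ι K := fun i j => formX X (bs K (hflip i)) (bs K j)

theorem qm_int (x : ι → K) (b c : ι) (hx : ∀ i, frobenius K 2 (x i) = x i) :
    frobenius K 2 (Qm x b c) = Qm x b c := by
  simp only [Qm, QB, BL, map_list_sum, List.map_map]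
  refine congrArg List.sum (List.map_congr_left fun m _ => ?_)
  have hb : ∀ k i : ι, frobenius K 2 (bs K k i) = bs K k i := fun k i => by
    by_cases e : i = k
    · subst e; simp
    · simp [Pi.single_eq_of_ne e]
  simp only [Function.comp, map_mul, map_add, map_intCast, hx, hb]

theorem bs_fixed (k i : ι) : frobenius K 2 (bs K k i) = bs K k i := by
  by_cases e : i = k
  · subst e; simp
  · simp [Pi.single_eq_of_ne e]

theorem cjM_qm (x : ι → K) : cjM (Qm x) = ∑ i, frobenius K 2 (x i) • Qm (bs K i) := by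
  ext b c
  rw [show cjM (Qm x) b c = frobenius K 2 (Qm x b c) from rfl, qm_sum x]
  simp only [Matrix.sum_apply, Matrix.smul_apply, smul_eq_mul, map_sum, map_mul,
    qm_int _ _ _ (bs_fixed _)]

/-- the matrix of the form -/
def formG (X : Matrix ι ι K) : Matrix ι ι K := fun i j => formX X (bs K i) (bs K j)

theorem kop_eq (X : Matrix ι ι K) : kop X = Fm * formG X := by
  ext i j
  rw [Fm_mul]
  rfl

theorem formX_eval (X : Matrix ι ι K) (x y : ι → K) :
    formX X x y = ∑ i, ∑ j, frobenius K 2 (x i) * (y j * formG X i j) := by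
  have h1 : ∀ i, cjM (Qm (bs K i)) = Qm (bs K i) := fun i => by
    ext b c
    exact qm_int _ _ _ (bs_fixed _)
  rw [formX, cjM_qm, qm_sum y]
  simp only [Finset.mul_sum, Finset.sum_mul, Matrix.mul_smul, Matrix.smul_mul, Matrix.trace_sum,
    Matrix.trace_smul, smul_eq_mul]
  rw [Finset.sum_comm]
  refine Finset.sum_congr rfl fun i _ => Finset.sum_congr rfl fun j _ => ?_
  rw [formG, formX, h1]
  ring

theorem formX_keep (hK : Fintype.card K = 4) {g : GL ι K} (hg : Keep g) (X : Matrix ι ι K) (x y : ι → K) :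
    formX ((g : Matrix ι ι K) * X * ((g⁻¹ : GL ι K) : Matrix ι ι K)) (ap g x) (ap g y) = formX X x y := by
  set A : Matrix ι ι K := (g : Matrix ι ι K)
  set N : Matrix ι ι K := ((g⁻¹ : GL ι K) : Matrix ι ι K) with hN
  have hAN : A * N = 1 := Units.mul_inv g
  have hNA : N * A = 1 := Units.inv_mul g
  have hq : ∀ z, Qm (ap g z) = Nᵀ * Qm z * N := fun z => by
    rw [← qm_keep hK hg z]
    calc Qm (ap g z) = (A * N)ᵀ * Qm (ap g z) * (A * N) := by rw [hAN, Matrix.transpose_one, Matrix.one_mul, Matrix.mul_one]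
      _ = _ := by rw [Matrix.transpose_mul]; simp only [A, Matrix.mul_assoc]
  obtain ⟨h1, -⟩ := keep_hermitian' hK hg
  obtain ⟨-, h2⟩ := keep_hermitian' hK hg.inv
  rw [inv_inv] at h2
  have h3 : cjM N * Fm * Nᵀ = (Fm : Matrix ι ι K) := by
    rw [hN, h2, Matrix.mul_assoc, ← Matrix.transpose_mul]
    show Fm * (N * A)ᵀ = Fm
    rw [hNA, Matrix.transpose_one, Matrix.mul_one]
  have e : Fm * cjM (Qm (ap g x)) * Fm * Qm (ap g y) * (A * X * N) =
      A * (Fm * cjM (Qm x) * Fm * Qm y * X) * N := by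
    rw [hq, hq, cjM_mul, cjM_mul, show cjM Nᵀ = (cjM N)ᵀ from Matrix.transpose_map]
    calc Fm * ((cjM N)ᵀ * cjM (Qm x) * cjM N) * Fm * (Nᵀ * Qm y * N) * (A * X * N) =
          Fm * (cjM N)ᵀ * cjM (Qm x) * (cjM N * Fm * Nᵀ) * Qm y * (N * A) * X * N := by simp only [Matrix.mul_assoc]
      _ = A * (Fm * cjM (Qm x) * Fm * Qm y * X) * N := by
        rw [h3, hNA, ← h1]
        simp only [Matrix.mul_one, Matrix.mul_assoc]
        rfl
  rw [formX, formX, e, Matrix.trace_mul_comm, ← Matrix.mul_assoc, hNA, Matrix.one_mul]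

/-- the operator is carried along by every map keeping the form and the pairing -/
theorem kop_conj (hK : Fintype.card K = 4) {g : GL ι K} (hg : Keep g) (X : Matrix ι ι K) :
    kop ((g : Matrix ι ι K) * X * ((g⁻¹ : GL ι K) : Matrix ι ι K)) =
      (g : Matrix ι ι K) * kop X * ((g⁻¹ : GL ι K) : Matrix ι ι K) := by
  set A : Matrix ι ι K := (g : Matrix ι ι K)
  set N : Matrix ι ι K := ((g⁻¹ : GL ι K) : Matrix ι ι K)
  have hAN : A * N = 1 := Units.mul_inv g
  have key : (cjM A)ᵀ * formG (A * X * N) * A = formG X := by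
    ext a b
    rw [show formG X a b = formX X (bs K a) (bs K b) from rfl, ← formX_keep hK hg, formX_eval,
      Matrix.mul_apply, Finset.sum_comm]
    refine Finset.sum_congr rfl fun j _ => ?_
    rw [Matrix.mul_apply, Finset.sum_mul]
    refine Finset.sum_congr rfl fun i _ => ?_
    simp only [ap, Matrix.mulVec_single, Matrix.transpose_apply]
    simp [cjM, A, N]
    ring
  have hh : A * Fm * (cjM A)ᵀ = (Fm : Matrix ι ι K) := by
    rw [(keep_hermitian' hK hg).1, Matrix.mul_assoc, ← Matrix.transpose_mul]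
    show Fm * (cjM A * cjM N)ᵀ = Fm
    rw [← cjM_mul, hAN, cjM_one, Matrix.transpose_one, Matrix.mul_one]
  rw [kop_eq, kop_eq]
  calc Fm * formG (A * X * N) = A * Fm * (cjM A)ᵀ * formG (A * X * N) * (A * N) := by
        rw [hh, hAN, Matrix.mul_one]
    _ = A * (Fm * ((cjM A)ᵀ * formG (A * X * N) * A)) * N := by simp only [Matrix.mul_assoc]
    _ = A * (Fm * formG X) * N := by rw [key]

end CfsgLib.Chev.E62Locals
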