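import Cfsg.Agent.Lib.Chev.E62Locals.Nineteen

/-!
In the twisted group of type E6 over four elements no normalizer of a nontrivial subgroup of prime power
order is maximal for a prime above five.
-/

set_option autoImplicit false
set_option linter.unusedSectionVars false

namespace CfsgLib.Chev.E62Locals

open Cfsg.Lie Matrix CfsgLib.Chev CfsgLib.Chev.E6Form CfsgLib.Chev.E62Five
open CfsgLib.Chev.E62Fi22 (matOf scRows)
open CfsgLib.KnownB.Fi22Mult.Rep (Vc app eqL eqL_sound)

variable {K : Type*} [Field K] [CharP K 2] [Fintype K] {w : K}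

theorem pow_table (hw : w * w = w + 1) {Z : GL ι K} {T : ℕ → List Vc} {p : ℕ} (hp : 1 ≤ p)
    (hlen : ∀ k, (T k).length = 27) {C : List Vc} (hCl : C.length = 27)
    (hC : (Z : Matrix ι ι K) = matOf w C) (h0 : eqL (T 0) (scRows id) = true)
    (hstep : ∀ k < p - 1, eqL (mulC C (T k)) (T (k + 1)) = true)
    (hlast : eqL (mulC C (T (p - 1))) (scRows id) = true) :
    (∀ k < p, (Z : Matrix ι ι K) ^ k = matOf w (T k)) ∧ Z ^ p = 1 := by
  have key : ∀ k < p, (Z : Matrix ι ι K) ^ k = matOf w (T k) := by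
    intro k hk
    induction k with
    | zero => rw [pow_zero, eqL_sound h0, E62Fi22.matOf_id]
    | succ k ih =>
      rw [pow_succ', ih (by omega), hC, ← matOf_mulC hw hCl (hlen k), eqL_sound (hstep k (by omega))]
  refine ⟨key, Units.ext ?_⟩
  rw [Units.val_pow_eq_pow_val, show p = p - 1 + 1 by omega, pow_succ', key _ (by omega), hC,
    ← matOf_mulC hw hCl (hlen _), eqL_sound hlast, E62Fi22.matOf_id, Units.val_one]

theorem ne_one_of_table (hw : w * w = w + 1) {Z : GL ι K} {k : ℕ} (hk : k < 109)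
    (hk' : [0, 17, 28, 41, 60].contains k = false) (hZ : (Z : Matrix ι ι K) = matOf w (tabC k)) : Z ≠ 1 := by
  intro e
  rw [e, Units.val_one, ← E62Fi22.matOf_id (w := w)] at hZ
  have := List.all_eq_true.1 nontrivial_true k (List.mem_range.2 hk)
  rw [hk', Bool.false_or] at this
  exact neqC_sound hw this hZ.symm

/-- the exact lift of an element of prime order -/
theorem cyclic_covers (hK : Fintype.card K = 4) (hw : w * w = w + 1) {R : E62Fi22.Rep K w} {p : ℕ}
    [hp : Fact p.Prime] (h3 : Nat.Coprime p 3) {x : Tw K} {Z : GL ι K} (hx : chiT R x = E62Fi22.pr Z)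
    (hZ : Z ^ p = 1) (hZ1 : Z ≠ 1) :
    orderOf x = p ∧ Covers R (Subgroup.zpowers x) ((List.range p).map fun k => Z ^ k) p ∧
      ((List.range p).map fun k => Z ^ k).Nodup := by
  have hpos : 0 < p := hp.out.pos
  have hxp : x ^ p = 1 := chiT_inj R (by rw [map_pow, hx, ← map_pow, hZ, map_one, map_one])
  have hx1 : x ≠ 1 := fun e => hZ1 (pr_unique hK hw h3 hZ (one_pow _)
    (by rw [← hx, e, map_one, map_one]))
  have hoZ : orderOf Z = p := orderOf_eq_prime hZ hZ1
  have hox : orderOf x = p := orderOf_eq_prime hxp hx1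
  refine ⟨hox, ⟨h3, fun X hX => ?_, fun y hy => ?_, fun X hX => ?_⟩, ?_⟩
  · obtain ⟨k, -, rfl⟩ := List.mem_map.1 hX
    rw [← pow_mul, Nat.mul_comm, pow_mul, hZ, one_pow]
  · obtain ⟨k, hk, rfl⟩ : ∃ k < p, x ^ k = y := by
      classical
      have := (mem_zpowers_iff_mem_range_orderOf).1 hy
      rw [hox] at this
      simpa using this
    exact ⟨Z ^ k, List.mem_map.2 ⟨k, List.mem_range.2 hk, rfl⟩, by rw [map_pow, hx, ← map_pow]⟩
  · obtain ⟨k, -, rfl⟩ := List.mem_map.1 hX
    exact ⟨x ^ k, Subgroup.pow_mem _ (Subgroup.mem_zpowers x) _, by rw [map_pow, hx, ← map_pow]⟩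
  · refine List.nodup_range.map_on fun i hi j hj e => ?_
    exact pow_injOn_Iio_orderOf (Set.mem_Iio.2 (hoZ ▸ List.mem_range.1 hi))
      (Set.mem_Iio.2 (hoZ ▸ List.mem_range.1 hj)) e

theorem coatom_conj {G : Type*} [Group G] {P : Subgroup G} (g : G)
    (h : ¬ IsCoatom (Subgroup.normalizer ((P.map (MulAut.conj g).toMonoidHom : Subgroup G) : Set G))) :
    ¬ IsCoatom (Subgroup.normalizer (P : Set G)) := fun hP => h (by
  rw [← Subgroup.map_equiv_normalizer_eq]
  exact (OrderIso.isCoatom_iff (MulAut.conj g).mapSubgroup _).2 hP)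

/-- a subgroup of prime power order moves into a given Sylow subgroup -/
theorem into_sylow {G : Type*} [Group G] [Finite G] {p : ℕ} [Fact p.Prime] {P Q : Subgroup G}
    (hP : IsPGroup p P) (hQ : Nat.card Q = p ^ (Nat.card G).factorization p) :
    ∃ g : G, P.map (MulAut.conj g).toMonoidHom ≤ Q := by
  let S : Sylow p G := Sylow.ofCard Q hQ
  obtain ⟨Q', hQ'⟩ := hP.exists_le_sylow
  obtain ⟨g, hg⟩ := MulAction.exists_smul_eq G Q' S
  refine ⟨g, ?_⟩
  rintro _ ⟨x, hx, rfl⟩
  have h1 : g * x * g⁻¹ ∈ ((g • Q' : Sylow p G) : Subgroup G) := by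
    rw [Sylow.coe_subgroup_smul, Subgroup.mem_smul_pointwise_iff_exists]
    exact ⟨x, hQ' hx, rfl⟩
  rw [hg] at h1
  exact h1

theorem map_conj_ne_bot {G : Type*} [Group G] {P : Subgroup G} (g : G) (h : P ≠ ⊥) :
    P.map (MulAut.conj g).toMonoidHom ≠ ⊥ := fun e => h (by
  rwa [Subgroup.map_eq_bot_iff_of_injective _ (MulAut.conj g).injective] at e)

/-- order of the group -/
theorem card_twisted (hK : Fintype.card K = 4) :
    Nat.card (Tw K) = 2 ^ 36 * 3 ^ 9 * 5 ^ 2 * 7 ^ 2 * 11 * 13 * 17 * 19 := by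
  haveI : Fact (Nat.Prime 2) := ⟨Nat.prime_two⟩
  have hσ : ∀ x : K, frobenius K 2 x = x ^ 2 := fun x => frobenius_def 2 x
  have hK2 : Fintype.card K = 2 ^ 2 := by rw [hK]; norm_num
  have h := (E62.orders hσ hK2).2
  rw [show Nat.gcd 3 (2 + 1) = 3 from rfl, ← E62.twisted_eq_fix hσ hK2] at h
  change 3 * Nat.card (Tw K) = _ at h
  norm_num at h ⊢
  omega

theorem factorization_single {n p k m : ℕ} (hp : p.Prime) (h : n = p ^ k * m) (hm : ¬ p ∣ m) :
    n.factorization p = k := by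
  have hm0 : m ≠ 0 := fun e => hm (e ▸ dvd_zero p)
  rw [h, Nat.factorization_mul (pow_ne_zero _ hp.ne_zero) hm0, Finsupp.add_apply,
    Nat.factorization_eq_zero_of_not_dvd hm, hp.factorization_pow, Finsupp.single_eq_same, add_zero]

theorem line_of : ∀ i < 7, ∀ j < 7, (i, j) ≠ (0, 0) → ∃ n < 8, ∃ k < 7,
    k * i % 7 = (lineE.getD n (0, 0)).1 ∧ k * j % 7 = (lineE.getD n (0, 0)).2 := by decide +kernel

/-- a generator of one of the four cyclic Sylow subgroups -/
theorem cyclic_case (hK : Fintype.card K = 4) (hw : w * w = w + 1) (R : E62Fi22.Rep K w) {g : ℕ} (hg : g < 4)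
    {p : ℕ} [hp : Fact p.Prime] (hpg : genP.getD g 0 = p) :
    ∃ x : Tw K, orderOf x = p ∧ ¬ IsCoatom (Subgroup.normalizer ((Subgroup.zpowers x : Subgroup (Tw K)) : Set (Tw K))) := by
  obtain ⟨x, Z, hx, hZ⟩ := exists_gen hK hw R (g := g) (by omega)
  have h := List.all_eq_true.1 pows_true g (List.mem_range.2 hg)
  simp only [powOK, hpg, Bool.and_eq_true, List.all_eq_true, List.mem_range, Nat.beq_eq_true_eq] at h
  obtain ⟨⟨⟨ho, h0⟩, hs⟩, hl⟩ := h
  set o := offs.getD g 0 with hodef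
  have ho' : o + 1 = genIdx g := Nat.eq_of_beq_eq_true (by simpa using ho)
  have h3 : Nat.Coprime p 3 := by rw [← hpg]; interval_cases g <;> decide +kernel
  obtain ⟨hpow, hZp⟩ := pow_table (T := fun k => tabC (o + k)) hw hp.out.one_lt.le (fun k => len_tabC _)
    (len_tabC (o + 1)) (by rw [ho']; exact hZ) h0 (fun k hk => hs k hk) hl
  have hZ1 : Z ≠ 1 := ne_one_of_table (k := genIdx g) hw (by interval_cases g <;> decide +kernel)
    (by interval_cases g <;> decide +kernel) hZ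
  obtain ⟨hox, hC, hnd⟩ := cyclic_covers hK hw h3 hx hZp hZ1
  refine ⟨x, hox, ?_⟩
  rcases eq_or_ne g 3 with rfl | hg3
  · obtain rfl : p = 19 := hpg ▸ (by decide +kernel)
    exact case_nineteen hK hw hC fun k hk => by
      rw [hpow k hk]
      rfl
  · refine case_sum hK hw (c := g) (by omega) hg3 hC hnd ?_
    have hm : membersC g = (List.range p).map fun k => tabC (o + k) := by
      rw [← hpg, hodef]; interval_cases g <;> decide +kernel
    rw [hm, List.map_map, List.map_map]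
    refine List.map_congr_left fun k hk => ?_
    simp only [Function.comp, Units.val_pow_eq_pow_val]
    exact hpow k (List.mem_range.1 hk)

/-- the group of order forty-nine and its eight subgroups of order seven -/
theorem seven_case (hK : Fintype.card K = 4) (hw : w * w = w + 1) (R : E62Fi22.Rep K w) :
    ∃ Q : Subgroup (Tw K), Nat.card Q = 7 ^ 2 ∧ ∀ P ≤ Q, P ≠ ⊥ →
      ¬ IsCoatom (Subgroup.normalizer (P : Set (Tw K))) := by
  haveI : Fact (Nat.Prime 7) := ⟨by norm_num⟩
  obtain ⟨a, A, ha, hA⟩ := exists_gen hK hw R (g := 4) (by norm_num)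
  obtain ⟨b, B, hb, hB⟩ := exists_gen hK hw R (g := 5) (by norm_num)
  rw [show genIdx 4 = 67 from rfl] at hA
  rw [show genIdx 5 = 61 from rfl] at hB
  have h := seven_true
  simp only [sevenOK, Bool.and_eq_true, List.all_eq_true, List.mem_range] at h
  obtain ⟨⟨⟨⟨⟨⟨h0, ha1⟩, ha2⟩, hb1⟩, hb2⟩, hprod⟩, hcomm⟩ := h
  obtain ⟨hAp, hA7⟩ := pow_table (T := fun i => tabC (60 + 7 * i)) (p := 7) hw (by norm_num)
    (fun k => len_tabC _) (len_tabC 67) hA h0 ha1 ha2
  obtain ⟨hBp, hB7⟩ := pow_table (T := fun j => tabC (60 + j)) (p := 7) hw (by norm_num)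
    (fun k => len_tabC _) (len_tabC 61) hB h0 hb1 hb2
  have hAB : Commute A B := Units.ext (by
    rw [Units.val_mul, Units.val_mul, hA, hB, ← matOf_mulC hw (len_tabC _) (len_tabC _),
      ← matOf_mulC hw (len_tabC _) (len_tabC _), eqL_sound hcomm])
  have hab : Commute a b := chiT_inj R (by rw [map_mul, map_mul, ha, hb, ← map_mul, ← map_mul, hAB.eq])
  have ha7 : a ^ 7 = 1 := chiT_inj R (by rw [map_pow, ha, ← map_pow, hA7, map_one, map_one])
  have hb7 : b ^ 7 = 1 := chiT_inj R (by rw [map_pow, hb, ← map_pow, hB7, map_one, map_one])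
  set y : ℕ → ℕ → Tw K := fun i j => a ^ i * b ^ j with hy
  set Y : ℕ → ℕ → GL ι K := fun i j => A ^ i * B ^ j with hYdef
  have hyY : ∀ i j, chiT R (y i j) = E62Fi22.pr (Y i j) := fun i j => by
    rw [hy, hYdef]
    simp only [map_mul, map_pow, ha, hb]
  have hY7 : ∀ i j, Y i j ^ 7 = 1 := fun i j => by
    show (A ^ i * B ^ j) ^ 7 = 1
    rw [(hAB.pow_pow i j).mul_pow, ← pow_mul, ← pow_mul, Nat.mul_comm i, Nat.mul_comm j, pow_mul, pow_mul,
      hA7, hB7, one_pow, one_pow, one_mul]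
  have modA : ∀ i, a ^ i = a ^ (i % 7) := fun i => by
    conv_lhs => rw [← Nat.mod_add_div i 7, pow_add, pow_mul, ha7, one_pow, mul_one]
  have modB : ∀ i, b ^ i = b ^ (i % 7) := fun i => by
    conv_lhs => rw [← Nat.mod_add_div i 7, pow_add, pow_mul, hb7, one_pow, mul_one]
  have hy_mul : ∀ i j k l, y i j * y k l = y ((i + k) % 7) ((j + l) % 7) := fun i j k l => by
    show a ^ i * b ^ j * (a ^ k * b ^ l) = a ^ ((i + k) % 7) * b ^ ((j + l) % 7)
    rw [← modA, ← modB, pow_add, pow_add, mul_assoc, ← mul_assoc (b ^ j), ((hab.pow_pow k j).symm).eq,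
      mul_assoc, ← mul_assoc]
  have hYv : ∀ i < 7, ∀ j < 7, (Y i j : Matrix ι ι K) = matOf w (tabC (60 + 7 * i + j)) := fun i hi j hj => by
    show ((A ^ i * B ^ j : GL ι K) : Matrix ι ι K) = _
    rw [Units.val_mul, Units.val_pow_eq_pow_val, Units.val_pow_eq_pow_val, hAp i hi, hBp j hj,
      ← matOf_mulC hw (len_tabC _) (len_tabC _), eqL_sound (hprod i hi j hj)]
  have hY1 : ∀ i < 7, ∀ j < 7, (i, j) ≠ (0, 0) → Y i j ≠ 1 := fun i hi j hj hne => by
    refine ne_one_of_table (k := 60 + 7 * i + j) hw (by omega) ?_ (hYv i hi j hj)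
    have : 0 < i ∨ 0 < j := by
      by_contra hh
      exact hne (by rw [show i = 0 by omega, show j = 0 by omega])
    rw [Bool.eq_false_iff, ne_eq, List.contains_iff_mem]
    simp
    omega
  have hy1 : ∀ i < 7, ∀ j < 7, y i j = 1 → i = 0 ∧ j = 0 := fun i hi j hj e => by
    by_contra hne
    refine hY1 i hi j hj (fun q => hne (by simpa using q)) ?_
    exact pr_unique hK hw (n := 7) (by norm_num) (hY7 i j) (one_pow _) (by rw [← hyY, e, map_one, map_one])
  have hyinj : ∀ i < 7, ∀ j < 7, ∀ k < 7, ∀ l < 7, y i j = y k l → i = k ∧ j = l := by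
    intro i hi j hj k hk l hl e
    have hz : y ((i + 6 * k) % 7) ((j + 6 * l) % 7) = 1 := by
      rw [← hy_mul, e, hy_mul, show (k + 6 * k) % 7 = 0 by omega, show (l + 6 * l) % 7 = 0 by omega]
      simp [hy]
    obtain ⟨h1, h2⟩ := hy1 _ (Nat.mod_lt _ (by norm_num)) _ (Nat.mod_lt _ (by norm_num)) hz
    omega
  let Q : Subgroup (Tw K) :=
    { carrier := {z | ∃ i < 7, ∃ j < 7, z = y i j}
      one_mem' := ⟨0, by norm_num, 0, by norm_num, by simp [hy]⟩
      mul_mem' := by
        rintro _ _ ⟨i, hi, j, hj, rfl⟩ ⟨k, hk, l, hl, rfl⟩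
        exact ⟨(i + k) % 7, Nat.mod_lt _ (by norm_num), (j + l) % 7, Nat.mod_lt _ (by norm_num), hy_mul i j k l⟩
      inv_mem' := by
        rintro _ ⟨i, hi, j, hj, rfl⟩
        refine ⟨(6 * i) % 7, Nat.mod_lt _ (by norm_num), (6 * j) % 7, Nat.mod_lt _ (by norm_num), ?_⟩
        refine inv_eq_of_mul_eq_one_right ?_
        rw [hy_mul, show (i + 6 * i % 7) % 7 = 0 by omega, show (j + 6 * j % 7) % 7 = 0 by omega]
        simp [hy] }
  have hQcard : Nat.card Q = 7 ^ 2 := by
    let f : Fin 7 × Fin 7 → Q := fun e => ⟨y e.1 e.2, e.1, e.1.isLt, e.2, e.2.isLt, rfl⟩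
    have hf : Function.Bijective f := by
      refine ⟨fun e e' h => ?_, ?_⟩
      · obtain ⟨h1, h2⟩ := hyinj _ e.1.isLt _ e.2.isLt _ e'.1.isLt _ e'.2.isLt (congrArg Subtype.val h)
        exact Prod.ext (Fin.ext h1) (Fin.ext h2)
      · rintro ⟨z, i, hi, j, hj, rfl⟩
        exact ⟨(⟨i, hi⟩, ⟨j, hj⟩), rfl⟩
    rw [← Nat.card_congr (Equiv.ofBijective f hf), Nat.card_prod, Nat.card_fin]
    norm_num
  -- the whole group
  have hwhole : ¬ IsCoatom (Subgroup.normalizer (Q : Set (Tw K))) := by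
    refine case_sum hK hw (c := 4) (by norm_num) (by norm_num) (P := Q)
      (R := R) (T := (List.range 49).map fun k => Y (k / 7) (k % 7)) (n := 7) ⟨by norm_num, ?_, ?_, ?_⟩ ?_ ?_
    · intro X hX
      obtain ⟨k, -, rfl⟩ := List.mem_map.1 hX
      exact hY7 _ _
    · rintro _ ⟨i, hi, j, hj, rfl⟩
      refine ⟨Y i j, List.mem_map.2 ⟨7 * i + j, List.mem_range.2 (by omega), ?_⟩, hyY i j⟩
      rw [show (7 * i + j) / 7 = i by omega, show (7 * i + j) % 7 = j by omega]
    · intro X hX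
      obtain ⟨k, hk, rfl⟩ := List.mem_map.1 hX
      have := List.mem_range.1 hk
      exact ⟨y (k / 7) (k % 7), ⟨k / 7, by omega, k % 7, by omega, rfl⟩, hyY _ _⟩
    · refine List.nodup_range.map_on fun i hi j hj e => ?_
      have := List.mem_range.1 hi; have := List.mem_range.1 hj
      obtain ⟨h1, h2⟩ := hyinj (i / 7) (by omega) (i % 7) (by omega) (j / 7) (by omega) (j % 7) (by omega)
        (chiT_inj R (by rw [hyY, hyY, e]))
      omega
    · rw [show membersC 4 = (List.range 49).map fun k => tabC (60 + k) from by decide +kernel, List.map_map,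
        List.map_map]
      refine List.map_congr_left fun k hk => ?_
      have := List.mem_range.1 hk
      simp only [Function.comp]
      rw [hYv _ (by omega) _ (by omega), show 60 + 7 * (k / 7) + k % 7 = 60 + k by omega]
  -- the lines
  have ypow : ∀ i j k, y i j ^ k = y (k * i % 7) (k * j % 7) := fun i j k => by
    show (a ^ i * b ^ j) ^ k = a ^ (k * i % 7) * b ^ (k * j % 7)
    rw [(hab.pow_pow i j).mul_pow, ← pow_mul, ← pow_mul, ← modA, ← modB, Nat.mul_comm i, Nat.mul_comm j]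
  have hline : ∀ n < 8, ¬ IsCoatom (Subgroup.normalizer ((Subgroup.zpowers
      (y (lineE.getD n (0, 0)).1 (lineE.getD n (0, 0)).2) : Subgroup (Tw K)) : Set (Tw K))) := by
    intro n hn
    set i := (lineE.getD n (0, 0)).1 with hi'
    set j := (lineE.getD n (0, 0)).2 with hj'
    have hij : i < 7 ∧ j < 7 ∧ (i, j) ≠ (0, 0) := by rw [hi', hj']; interval_cases n <;> decide
    obtain ⟨hi, hj, hne⟩ := hij
    obtain ⟨-, hC, hnd⟩ := cyclic_covers hK hw (p := 7) (by norm_num) (hyY i j) (hY7 i j) (hY1 i hi j hj hne)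
    refine case_sum hK hw (c := 5 + n) (by omega) (by omega) hC hnd ?_
    have hm : membersC (5 + n) = (List.range 7).map fun k => tabC (60 + 7 * (k * i % 7) + k * j % 7) := by
      rw [hi', hj']; interval_cases n <;> decide +kernel
    rw [hm, List.map_map, List.map_map]
    refine List.map_congr_left fun k hk => ?_
    simp only [Function.comp]
    have e : Y i j ^ k = Y (k * i % 7) (k * j % 7) := by
      refine pr_unique hK hw (n := 7) (by norm_num) ?_ (hY7 _ _) ?_
      · rw [← pow_mul, Nat.mul_comm, pow_mul, hY7, one_pow]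
      · rw [map_pow, ← hyY, ← hyY, ← map_pow, ypow]
    rw [e, hYv _ (Nat.mod_lt _ (by norm_num)) _ (Nat.mod_lt _ (by norm_num))]
  refine ⟨Q, hQcard, fun P hP hP1 => ?_⟩
  obtain ⟨m, hm, hmc⟩ := (Nat.dvd_prime_pow (by norm_num : Nat.Prime 7)).1 (hQcard ▸ Subgroup.card_dvd_of_le hP)
  interval_cases m
  · exact absurd (Subgroup.card_eq_one.1 (by simpa using hmc)) hP1
  · obtain ⟨z, hz, hz1⟩ := (Subgroup.ne_bot_iff_exists_ne_one.1 hP1 |> fun ⟨z, hz⟩ =>
      (⟨z.1, z.2, fun e => hz (Subtype.ext e)⟩ : ∃ z, z ∈ P ∧ z ≠ 1))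
    obtain ⟨i, hi, j, hj, rfl⟩ := hP hz
    have hne : (i, j) ≠ (0, 0) := fun e => hz1 (by
      rw [Prod.mk.injEq] at e
      rw [e.1, e.2]; simp [hy])
    obtain ⟨n, hn, k, hk⟩ := line_of i hi j hj hne
    have hmem : y (lineE.getD n (0, 0)).1 (lineE.getD n (0, 0)).2 ∈ P := by
      rw [← hk.2.1, ← hk.2.2, ← ypow]
      exact Subgroup.pow_mem _ hz k
    set v := y (lineE.getD n (0, 0)).1 (lineE.getD n (0, 0)).2 with hv
    have hv1 : orderOf v = 7 := by
      refine orderOf_eq_prime ?_ fun e => ?_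
      · rw [hv, ypow]; simp [hy]
      · have hb := hy1 (lineE.getD n (0, 0)).1 (by interval_cases n <;> decide)
          (lineE.getD n (0, 0)).2 (by interval_cases n <;> decide) e
        interval_cases n <;> simp [lineE] at hb
    have : P = Subgroup.zpowers v := by
      refine (Subgroup.eq_of_le_of_card_ge (Subgroup.zpowers_le.2 hmem) ?_).symm
      rw [hmc, Nat.card_zpowers, hv1, pow_one]
    rw [this]
    exact hline n hn
  · rw [Subgroup.eq_of_le_of_card_ge hP (by rw [hmc, hQcard])]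
    exact hwhole

/-- no normalizer of a nontrivial subgroup of prime power order is maximal for a prime above five -/
theorem main (hK : Fintype.card K = 4) (hw : w * w = w + 1) (p : ℕ) (hp : p.Prime) (h5 : 5 < p)
    (P : Subgroup (Tw K)) (hP : IsPGroup p P) (hP1 : P ≠ ⊥) :
    ¬ IsCoatom (Subgroup.normalizer (P : Set (Tw K))) := by
  haveI : Fact p.Prime := ⟨hp⟩
  obtain ⟨R⟩ := E62Fi22.exists_rep hw
  have hG := card_twisted hK
  haveI : Finite (Tw K) := Nat.finite_of_card_ne_zero (by rw [hG]; norm_num)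
  obtain ⟨n, hn⟩ := IsPGroup.iff_card.1 hP
  have hdvd : p ∣ Nat.card (Tw K) := by
    refine dvd_trans ?_ (Subgroup.card_subgroup_dvd_card P)
    rw [hn]
    exact dvd_pow_self p fun e => hP1 (Subgroup.card_eq_one.1 (by rw [hn, e, pow_zero]))
  have hcases : p = 7 ∨ p = 11 ∨ p = 13 ∨ p = 17 ∨ p = 19 := by
    rw [hG] at hdvd
    have key : ∀ q : ℕ, q.Prime → p ∣ q → p = q := fun q hq h => (Nat.prime_dvd_prime_iff_eq hp hq).1 h
    rcases hp.dvd_mul.1 hdvd with h | h
    swap; · exact Or.inr (Or.inr (Or.inr (Or.inr (key 19 (by norm_num) h))))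
    rcases hp.dvd_mul.1 h with h | h
    swap; · exact Or.inr (Or.inr (Or.inr (Or.inl (key 17 (by norm_num) h))))
    rcases hp.dvd_mul.1 h with h | h
    swap; · exact Or.inr (Or.inr (Or.inl (key 13 (by norm_num) h)))
    rcases hp.dvd_mul.1 h with h | h
    swap; · exact Or.inr (Or.inl (key 11 (by norm_num) h))
    rcases hp.dvd_mul.1 h with h | h
    swap; · exact Or.inl (key 7 (by norm_num) (hp.dvd_of_dvd_pow h))
    rcases hp.dvd_mul.1 h with h | h
    swap; · have := key 5 (by norm_num) (hp.dvd_of_dvd_pow h); omega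
    rcases hp.dvd_mul.1 h with h | h
    · have := key 2 (by norm_num) (hp.dvd_of_dvd_pow h); omega
    · have := key 3 (by norm_num) (hp.dvd_of_dvd_pow h); omega
  have cyc : ∀ g < 4, genP.getD g 0 = p → ∀ m : ℕ, Nat.card (Tw K) = p * m → ¬ p ∣ m →
      ¬ IsCoatom (Subgroup.normalizer (P : Set (Tw K))) := by
    intro g hg hpg m hm hnd
    obtain ⟨x, hox, hno⟩ := cyclic_case hK hw R hg hpg
    have hcard : Nat.card (Subgroup.zpowers x) = p := by rw [Nat.card_zpowers, hox]
    obtain ⟨c, hc⟩ := into_sylow (Q := Subgroup.zpowers x) hP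
      (by rw [hcard, factorization_single hp (k := 1) (by rw [pow_one]; exact hm) hnd, pow_one])
    refine coatom_conj c ?_
    have hd : Nat.card (P.map (MulAut.conj c).toMonoidHom) ∣ p := hcard ▸ Subgroup.card_dvd_of_le hc
    rcases (Nat.dvd_prime hp).1 hd with h | h
    · exact absurd (Subgroup.card_eq_one.1 h) (map_conj_ne_bot c hP1)
    · rw [Subgroup.eq_of_le_of_card_ge hc (by rw [hcard, h])]
      exact hno
  rcases hcases with rfl | rfl | rfl | rfl | rfl
  · obtain ⟨Q, hQ, hall⟩ := seven_case hK hw R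
    obtain ⟨c, hc⟩ := into_sylow (Q := Q) hP (by
      rw [hQ, factorization_single hp (k := 2) (m := 2 ^ 36 * 3 ^ 9 * 5 ^ 2 * 11 * 13 * 17 * 19)
        (by rw [hG]; norm_num) (by norm_num)])
    exact coatom_conj c (hall _ hc (map_conj_ne_bot c hP1))
  · exact cyc 1 (by norm_num) rfl (2 ^ 36 * 3 ^ 9 * 5 ^ 2 * 7 ^ 2 * 13 * 17 * 19) (by rw [hG]; norm_num) (by norm_num)
  · exact cyc 2 (by norm_num) rfl (2 ^ 36 * 3 ^ 9 * 5 ^ 2 * 7 ^ 2 * 11 * 17 * 19) (by rw [hG]; norm_num) (by norm_num)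
  · exact cyc 0 (by norm_num) rfl (2 ^ 36 * 3 ^ 9 * 5 ^ 2 * 7 ^ 2 * 11 * 13 * 19) (by rw [hG]; norm_num) (by norm_num)
  · exact cyc 3 (by norm_num) rfl (2 ^ 36 * 3 ^ 9 * 5 ^ 2 * 7 ^ 2 * 11 * 13 * 17) (by rw [hG]; norm_num) (by norm_num)

end CfsgLib.Chev.E62Locals
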