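import Cfsg.Agent.Lib.Chev.E62Locals.Elems

/-!
The invariant of the normalizer of a group of order nineteen: three matrices generating a field.
-/

set_option autoImplicit false
set_option linter.unusedSectionVars false

namespace CfsgLib.Chev.E62Locals

open Cfsg.Lie Matrix CfsgLib.Chev CfsgLib.Chev.E6Form CfsgLib.Chev.E62Five
open CfsgLib.Chev.E62Fi22 (matOf scRows expand elemL)
open CfsgLib.KnownB.Fi22Mult.Rep (Vc app eqL eqL_sound)

variable {K : Type*} [Field K] [CharP K 2] [Fintype K] {w : K}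

theorem trace_cjg (M : GL ι K) (X : Matrix ι ι K) : Matrix.trace (cjg M X) = Matrix.trace X := by
  rw [cjg, Matrix.trace_mul_comm, ← Matrix.mul_assoc, Units.inv_mul, Matrix.one_mul]

theorem cjg_pow (M : GL ι K) (X : Matrix ι ι K) : ∀ k : ℕ, cjg M (X ^ k) = cjg M X ^ k
  | 0 => by rw [pow_zero, pow_zero, cjg, Matrix.mul_one, Units.mul_inv]
  | k + 1 => by rw [pow_succ, pow_succ, cjg_pmul, cjg_pow M X k]

/-- the invariant at an exponent -/
def exprJ (w : K) (Z : Matrix ι ι K) (u : ℕ) : Matrix ι ι K :=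
  ((List.range 38).map fun t => E62Fi22.tval w (coefJ.getD t 0) •
    (if t < 19 then Z ^ (t % 19 * u % 19) else Z ^ (t % 19 * u % 19) * kop (Z ^ u))).sum

theorem cjg_exprJ (hK : Fintype.card K = 4) {M : GL ι K} (hM : Keep M) {Z : Matrix ι ι K} (hZ : Z ^ 19 = 1)
    {u : ℕ} (h : cjg M Z = Z ^ u) : cjg M (exprJ w Z 1) = exprJ w Z u := by
  have hp : ∀ i, cjg M (Z ^ (i % 19 * 1 % 19)) = Z ^ (i % 19 * u % 19) := fun i => by
    rw [cjg_pow, h, ← pow_mul, Nat.mul_one, Nat.mod_mod, Nat.mul_comm u]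
    conv_lhs => rw [← Nat.mod_add_div (i % 19 * u) 19, pow_add, pow_mul, hZ, one_pow, mul_one]
  rw [exprJ, cjg_sum, exprJ, List.map_map]
  refine congrArg List.sum (List.map_congr_left fun t _ => ?_)
  simp only [Function.comp, cjg_smul]
  split
  · rw [hp]
  · rw [cjg_pmul, hp, pow_one]
    refine congrArg (fun q => E62Fi22.tval w (coefJ.getD t 0) • (Z ^ (t % 19 * u % 19) * q)) ?_
    rw [← h]
    exact (kop_conj hK hM Z).symm

theorem coef_lt (t : ℕ) : coefJ.getD t 0 < 4 := by
  have h : (coefJ.all fun c => Nat.blt c 4) = true := by decide +kernel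
  rcases lt_or_ge t coefJ.length with ht | ht
  · rw [List.getD_eq_getElem?_getD, List.getElem?_eq_getElem ht, Option.getD_some]
    simpa using List.all_eq_true.1 h _ (List.getElem_mem ht)
  · rw [List.getD_eq_getElem?_getD, List.getElem?_eq_none ht]
    simp

theorem termsJ_len (n : ℕ) : ∀ M ∈ termsJ n, M.length = 27 := fun M hM => by
  obtain ⟨t, -, rfl⟩ := List.mem_map.1 hM
  rw [List.length_map]
  cases Nat.blt t 19
  · exact (len_mulC _ _).trans (getD_len lengths.2.2.1 n)
  · exact len_tabC _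

theorem exprJ_val (hw : w * w = w + 1) {Z : Matrix ι ι K}
    (hZ : ∀ k < 19, Z ^ k = matOf w (tabC (41 + k))) {n : ℕ} (hn : n < 9) :
    exprJ w Z (expQ.getD n 0) = matOf w (sumC (termsJ n)) := by
  rw [matOf_sumC _ (termsJ_len n), termsJ, List.map_map, exprJ]
  refine congrArg List.sum (List.map_congr_left fun t _ => ?_)
  set u := expQ.getD n 0 with hu
  have hu19 : u < 19 := by rw [hu]; interval_cases n <;> decide +kernel
  have hk : t % 19 * u % 19 < 19 := Nat.mod_lt _ (by norm_num)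
  simp only [Function.comp]
  rw [hZ _ hk, hZ u hu19]
  by_cases ht : t < 19
  · rw [if_pos ht, show Nat.blt t 19 = true from by simpa using ht, cond_true,
      matOf_scV hw (coef_lt t) (len_tabC _)]
  · rw [if_neg ht, show Nat.blt t 19 = false from Bool.eq_false_iff.2 fun h => ht (by simpa using h), cond_false,
      matOf_scV hw (coef_lt t) ((len_mulC _ _).trans (getD_len lengths.2.2.1 n)),
      matOf_mulC hw (len_tabC _) (getD_len lengths.2.2.1 n), kop_table hw hn]

theorem jTab_len (k : ℕ) (hk : k < 3) : (jTab.getD k []).length = 27 := by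
  interval_cases k <;> decide +kernel

/-- the three matrices -/
def setJ (w : K) : Set (Matrix ι ι K) := Set.range fun k : Fin 3 => matOf w (jTab.getD k.val [])

theorem mem_setJ {J : List Vc} (hJ : J ∈ jTab) : matOf w J ∈ setJ w := by
  obtain ⟨k, hk, rfl⟩ := List.getElem_of_mem hJ
  have h3 : jTab.length = 3 := by decide +kernel
  refine ⟨⟨k, h3 ▸ hk⟩, ?_⟩
  show matOf w (jTab.getD k []) = _
  rw [List.getD_eq_getElem?_getD, List.getElem?_eq_getElem hk, Option.getD_some]

theorem setJ_invariant (hK : Fintype.card K = 4) (hw : w * w = w + 1) {Z : GL ι K}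
    (hZ : ∀ k < 19, (Z : Matrix ι ι K) ^ k = matOf w (tabC (41 + k))) (hZp : Z ^ 19 = 1) {M : GL ι K}
    (hM : Keep M) {u : ℕ} (hu : u < 19) (h : M * Z * M⁻¹ = Z ^ u) : cjg M '' setJ w = setJ w := by
  have hj := jOK_true
  simp only [jOK, Bool.and_eq_true, List.all_eq_true, List.any_eq_true, List.mem_range, Nat.beq_eq_true_eq] at hj
  obtain ⟨⟨⟨⟨h0, h9⟩, hsum⟩, hany⟩, hpow⟩ := hj
  have hZp' : (Z : Matrix ι ι K) ^ 19 = 1 := by rw [← Units.val_pow_eq_pow_val, hZp, Units.val_one]
  have hc : cjg M (Z : Matrix ι ι K) = (Z : Matrix ι ι K) ^ u := by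
    rw [cjg_coe, h, Units.val_pow_eq_pow_val]
  -- the exponent is one of the nine
  have hu0 : u ≠ 0 := by
    rintro rfl
    rw [pow_zero] at h
    have hz : Z = 1 := by
      have : M * Z * M⁻¹ = M * 1 * M⁻¹ := by rw [h]; group
      exact mul_left_cancel (mul_right_cancel this)
    have e := hZ 1 (by norm_num)
    rw [hz, Units.val_one, pow_one, ← E62Fi22.matOf_id (w := w)] at e
    exact neqC_sound (K := K) hw (A := tabC 42) (B := scRows id) (by decide +kernel) e.symm
  have htr : trC (tabC (41 + u)) = trC (tabC 42) := by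
    refine valB_inj hw ?_
    rw [← trace_matOf, ← trace_matOf, ← hZ u hu, show (42 : ℕ) = 41 + 1 from rfl, ← hZ 1 (by norm_num),
      ← hc, trace_cjg, pow_one]
  have hmemQ : u ∈ expQ := by
    have := List.all_eq_true.1 traces_true u (by rw [List.mem_range'_1]; omega)
    simpa [htr] using this
  obtain ⟨n, hn, hne⟩ := List.getElem_of_mem hmemQ
  have hn9 : n < 9 := by rwa [show expQ.length = 9 from by decide +kernel] at hn
  have hnq : u = expQ.getD n 0 := by
    rw [List.getD_eq_getElem?_getD, List.getElem?_eq_getElem hn, Option.getD_some, hne]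
  -- the first matrix goes to one of the three
  set J : ℕ → Matrix ι ι K := fun k => matOf w (jTab.getD k []) with hJ
  have h01 : exprJ w (Z : Matrix ι ι K) 1 = J 0 := by
    rw [show (1 : ℕ) = expQ.getD 0 0 from (Nat.eq_of_beq_eq_true (by simpa using h0)).symm,
      exprJ_val hw hZ (by norm_num), eqL_sound hsum]
  have hJ0 : cjg M (J 0) ∈ setJ w := by
    rw [← h01, cjg_exprJ hK hM hZp' hc, hnq, exprJ_val hw hZ hn9]
    obtain ⟨J', hJ', e⟩ := hany n hn9
    rw [eqL_sound e]
    exact mem_setJ hJ'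
  have step : ∀ k < 3, J k ^ 4 = J ((k + 1) % 3) := fun k hk => by
    have hl := jTab_len k hk
    have hl2 : (mulC (jTab.getD k []) (jTab.getD k [])).length = 27 := (len_mulC _ _).trans hl
    show matOf w (jTab.getD k []) ^ 4 = matOf w (jTab.getD ((k + 1) % 3) [])
    rw [← eqL_sound (hpow k hk), matOf_mulC hw hl2 hl2, matOf_mulC hw hl hl]
    rw [← pow_two, ← pow_two, ← pow_mul]
  have closed : ∀ X ∈ setJ w, X ^ 4 ∈ setJ w := by
    rintro X ⟨k, rfl⟩
    exact ⟨⟨(k.val + 1) % 3, Nat.mod_lt _ (by norm_num)⟩, (step k.val k.isLt).symm⟩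
  have h1 : cjg M (J 1) ∈ setJ w := by
    rw [show J 1 = J 0 ^ 4 from (step 0 (by norm_num)).symm, cjg_pow]
    exact closed _ hJ0
  have h2 : cjg M (J 2) ∈ setJ w := by
    rw [show J 2 = J 1 ^ 4 from (step 1 (by norm_num)).symm, cjg_pow]
    exact closed _ h1
  refine Set.eq_of_subset_of_ncard_le ?_ ?_ (Set.finite_range _)
  · rintro _ ⟨X, ⟨k, rfl⟩, rfl⟩
    fin_cases k
    exacts [hJ0, h1, h2]
  · rw [Set.ncard_image_of_injective _ (cjg_inj M)]

/-- the certificate at nineteen -/
theorem case_nineteen (hK : Fintype.card K = 4) (hw : w * w = w + 1) {R : E62Fi22.Rep K w}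
    {P : Subgroup (Tw K)} {Z : GL ι K} (hC : Covers R P ((List.range 19).map fun k => Z ^ k) 19)
    (hZ : ∀ k < 19, (Z : Matrix ι ι K) ^ k = matOf w (tabC (41 + k))) :
    ¬ IsCoatom (Subgroup.normalizer (P : Set (Tw K))) := by
  have hinvC : invC 3 = jTab := rfl
  obtain ⟨hW, hA⟩ := wit_val (K := K) hw (c := 3) (by norm_num)
  have hw1 := List.all_eq_true.1 wits_true 3 (List.mem_range.2 (by norm_num))
  simp only [witOK, hinvC, Bool.and_eq_true, List.all_eq_true] at hw1
  obtain ⟨⟨-, hcomm⟩, hmove⟩ := hw1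
  have hout := List.all_eq_true.1 outs_true 3 (List.mem_range.2 (by norm_num))
  simp only [outOK, hinvC, List.all_eq_true] at hout
  have hm : membersC 3 = (List.range 19).map fun k => tabC (41 + k) := by decide +kernel
  have hlW : (witM.getD 3 (scRows id)).length = 27 := getD_len lengths.2.1 3
  have hL : wordOK [outL.getD 3 (0, 0)] = true := by decide +kernel
  have hZp : Z ^ 19 = 1 := by
    have := hC.pow (Z ^ 1) (List.mem_map.2 ⟨1, List.mem_range.2 (by norm_num), rfl⟩)
    rwa [pow_one] at this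
  refine not_coatom hK hw hC (setJ w) (fun M hM h => ?_) _ hW (fun X hX => ?_) ?_ [outL.getD 3 (0, 0)] hL
    (matOf w (jTab.getD 0 [])) ⟨0, rfl⟩ fun Y hY => ?_
  · have := h (Z ^ 1) (List.mem_map.2 ⟨1, List.mem_range.2 (by norm_num), rfl⟩)
    obtain ⟨u, hu, e⟩ := List.mem_map.1 this
    exact setJ_invariant hK hw hZ hZp hM (List.mem_range.1 hu) (by rw [e, pow_one])
  · obtain ⟨k, rfl⟩ := hX
    have hl := jTab_len k.val k.isLt
    have hJ : jTab.getD k.val [] ∈ jTab := by fin_cases k <;> decide +kernel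
    show (witU w 3 : Matrix ι ι K) * matOf w _ = matOf w _ * (witU w 3 : Matrix ι ι K)
    rw [hA, ← matOf_mulC hw hlW hl, ← matOf_mulC hw hl hlW, eqL_sound (hcomm _ hJ)]
  · refine ⟨Z ^ 1, List.mem_map.2 ⟨1, List.mem_range.2 (by norm_num), rfl⟩, fun Y hY => ?_⟩
    obtain ⟨k, hk, rfl⟩ := List.mem_map.1 hY
    show (witU w 3 : Matrix ι ι K) * ((Z ^ 1 : GL ι K) : Matrix ι ι K) ≠ ((Z ^ k : GL ι K) : Matrix ι ι K) * (witU w 3 : Matrix ι ι K)
    rw [hA, Units.val_pow_eq_pow_val, Units.val_pow_eq_pow_val, hZ 1 (by norm_num), hZ k (List.mem_range.1 hk),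
      ← matOf_mulC hw hlW (len_tabC _), ← matOf_mulC hw (len_tabC _) hlW]
    refine neqC_sound hw ?_
    have := hmove (tabC (41 + k)) (by rw [hm]; exact List.mem_map.2 ⟨k, hk, rfl⟩)
    rwa [show (membersC 3).getD 1 (scRows id) = tabC (41 + 1) from by rw [hm]; rfl] at this
  · obtain ⟨k, rfl⟩ := hY
    have hl := jTab_len k.val k.isLt
    have hJ : jTab.getD k.val [] ∈ jTab := by fin_cases k <;> decide +kernel
    simp only [List.flatMap_cons, List.flatMap_nil, List.append_nil]
    rw [letter_val hw hL, ← matOf_mulC hw (len_letC _) (jTab_len 0 (by norm_num)),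
      ← matOf_mulC hw hl (len_letC _)]
    exact neqC_sound hw (hout _ hJ)

end CfsgLib.Chev.E62Locals
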