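import Cfsg.Agent.Lib.Chev.E62Locals.Cols

/-!
The matrices of the pieces of the words.
-/

set_option autoImplicit false
set_option maxRecDepth 100000
set_option maxHeartbeats 0

namespace CfsgLib.Chev.E62Locals

theorem genPieces_true : ((List.range 6).all fun g => piecesOK (genW.getD g []) (genCM.getD g [])) = true := by
  decide +kernel

theorem witPieces_true : ((List.range 13).all fun c => piecesOK (witW.getD c []) (witCM.getD c [])) = true := by
  decide +kernel

end CfsgLib.Chev.E62Locals
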