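import Cfsg.Agent.Lib.Chev.E62Locals.Pieces
import Cfsg.Agent.Lib.Chev.E62Locals.Kop

/-!
Matrices given by columns: products, sums, scalars, differences, traces and the operator.
-/

set_option autoImplicit false
set_option linter.unusedSectionVars false

namespace CfsgLib.Chev.E62Locals

open Matrix CfsgLib.Chev.E6Form CfsgLib.Chev.E62Five
open CfsgLib.Chev.E62Fi22 (matOf matOf_map_app matOf_zipWith scRows dec bitv bitv_xor)
open CfsgLib.KnownB.Fi22Mult.Rep (Vc vx wm app eqL eqL_sound)

variable {K : Type*} [Field K] [CharP K 2] [Fintype K] {w : K}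

theorem len_mulC (A B : List Vc) : (mulC A B).length = B.length := List.length_map _

theorem dec_appF (hw : w * w = w + 1) : ∀ (A : List Vc) (a b x y : ℕ) (p : ℕ),
    dec w (appF A a b x y) p = dec w ((x, y) : Vc) p +
      ∑ j ∈ Finset.range A.length, dec w ((a, b) : Vc) j * dec w (A.getD j (0, 0)) p
  | [], a, b, x, y, p => by
    show dec w ((x, y) : Vc) p = _
    simp
  | r :: rs, a, b, x, y, p => by
    have ha : a.testBit 0 = Nat.beq (a % 2) 1 := by
      rw [Nat.testBit_zero]
      rcases Nat.mod_two_eq_zero_or_one a with e | e <;> rw [e] <;> rfl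
    have hb : b.testBit 0 = Nat.beq (b % 2) 1 := by
      rw [Nat.testBit_zero]
      rcases Nat.mod_two_eq_zero_or_one b with e | e <;> rw [e] <;> rfl
    have e : ∀ j, dec w ((a / 2, b / 2) : Vc) j = dec w ((a, b) : Vc) (j + 1) := fun j => by
      simp [dec, Nat.testBit_succ]
    have h0 : dec w ((a, b) : Vc) 0 = bitv (Nat.beq (a % 2) 1) + bitv (Nat.beq (b % 2) 1) * w := by
      simp only [dec, ha, hb]
    have hx : ∀ u v : ℕ, ∀ q, dec w ((Nat.xor x u, Nat.xor y v) : Vc) q =
        dec w ((x, y) : Vc) q + dec w ((u, v) : Vc) q := fun u v q => E62Fi22.dec_vx w (x, y) (u, v) q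
    rw [List.length_cons, Finset.sum_range_succ']
    simp only [List.getD_cons_succ, List.getD_cons_zero, ← e, h0]
    show dec w (Bool.rec _ _ (Nat.beq (a % 2) 1)) p = _
    cases Nat.beq (a % 2) 1 <;> cases Nat.beq (b % 2) 1
    · show dec w (appF rs (a / 2) (b / 2) x y) p = _
      rw [dec_appF hw rs]
      simp [bitv]
    · show dec w (appF rs (a / 2) (b / 2) (Nat.xor x r.2) (Nat.xor y (Nat.xor r.1 r.2))) p = _
      rw [dec_appF hw rs, hx, show ((r.2, Nat.xor r.1 r.2) : Vc) = wm r from rfl, E62Fi22.dec_wm hw]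
      simp [bitv]
      ring
    · show dec w (appF rs (a / 2) (b / 2) (Nat.xor x r.1) (Nat.xor y r.2)) p = _
      rw [dec_appF hw rs, hx, show ((r.1, r.2) : Vc) = r from rfl]
      simp [bitv]
      ring
    · show dec w (appF rs (a / 2) (b / 2) (Nat.xor x (Nat.xor r.1 r.2)) (Nat.xor y r.1)) p = _
      have e2 : dec w ((Nat.xor r.1 r.2, r.1) : Vc) p = (1 + w) * dec w r p := by
        rw [show ((Nat.xor r.1 r.2, r.1) : Vc) = vx r (wm r) from Prod.ext rfl ?_, E62Fi22.dec_vx,
          E62Fi22.dec_wm hw]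
        · ring
        · show r.1 = r.2 ^^^ (r.1 ^^^ r.2)
          rw [Nat.xor_comm r.1 r.2, ← Nat.xor_assoc, Nat.xor_self, Nat.zero_xor]
      rw [dec_appF hw rs, hx, e2]
      simp [bitv]
      ring

theorem matOf_mulC (hw : w * w = w + 1) {A B : List Vc} (hA : A.length = 27) (hB : B.length = 27) :
    matOf w (mulC A B) = matOf w A * matOf w B := by
  ext i k
  show dec w ((B.map fun v => appF A v.1 v.2 0 0).getD (E62Fi22.pos k) (0, 0)) (E62Fi22.pos i) = _
  rw [E62Fi22.getD_map _ (by rw [hB]; exact E62Fi22.pos_lt k), dec_appF hw, hA,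
    E62Fi22.dec_zero w, zero_add, Matrix.mul_apply]
  symm
  refine Finset.sum_bij (fun j _ => E62Fi22.pos j) (fun j _ => Finset.mem_range.2 (E62Fi22.pos_lt j))
    (fun a _ b _ h => E62Fi22.pos_inj h)
    (fun n hn => ⟨cd n, Finset.mem_univ _, E62Fi22.pos_cd (Finset.mem_range.1 hn)⟩) fun j _ => ?_
  exact mul_comm _ _

theorem len_prodL : ∀ L : List (List Vc), (prodL L).length = 27
  | [] => E62Fi22.len_scRows id
  | M :: L => by rw [prodL, len_mulC, len_prodL L]

theorem matOf_prodL (hw : w * w = w + 1) : ∀ L : List (List Vc), (∀ M ∈ L, M.length = 27) →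
    matOf w (prodL L) = (L.map (matOf w)).prod
  | [], _ => by rw [prodL, E62Fi22.matOf_id]; rfl
  | M :: L, h => by
    rw [prodL, matOf_mulC hw (h M List.mem_cons_self) (len_prodL L),
      matOf_prodL hw L fun N hN => h N (List.mem_cons_of_mem _ hN)]
    rfl

theorem matOf_zero : matOf w (scRows fun _ => ((0, 0) : Vc)) = (0 : Matrix ι ι K) := by
  ext i k
  show dec w (((List.range 27).map fun _ => ((0, 0) : Vc)).getD (E62Fi22.pos k) (0, 0)) (E62Fi22.pos i) = _
  rw [List.getD_eq_getElem?_getD, List.getElem?_map, List.getElem?_range (E62Fi22.pos_lt k)]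
  exact E62Fi22.dec_zero w _

theorem len_sumC : ∀ L : List (List Vc), (∀ M ∈ L, M.length = 27) → (sumC L).length = 27
  | [], _ => E62Fi22.len_scRows _
  | M :: L, h => by
    rw [sumC, List.length_zipWith, h M List.mem_cons_self,
      len_sumC L fun N hN => h N (List.mem_cons_of_mem _ hN)]
    rfl

theorem matOf_sumC : ∀ L : List (List Vc), (∀ M ∈ L, M.length = 27) →
    matOf w (sumC L) = (L.map (matOf w)).sum
  | [], _ => by rw [sumC, matOf_zero]; rfl
  | M :: L, h => by
    rw [sumC, matOf_zipWith (h M List.mem_cons_self) (len_sumC L fun N hN => h N (List.mem_cons_of_mem _ hN)),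
      matOf_sumC L fun N hN => h N (List.mem_cons_of_mem _ hN)]
    rfl

theorem dec_scV (hw : w * w = w + 1) {c : ℕ} (hc : c < 4) (v : Vc) (p : ℕ) :
    dec w (scV c v) p = E62Fi22.tval w c * dec w v p := by
  obtain ⟨t0, t1, t2, t3⟩ := tval_codes w
  interval_cases c
  · rw [scV, t0, zero_mul, E62Fi22.dec_zero]
  · rw [scV, t1, one_mul]
  · rw [scV, t2, E62Fi22.dec_wm hw]
  · rw [show scV 3 v = wm (wm v) from rfl, t3, E62Fi22.dec_wm hw, E62Fi22.dec_wm hw, ← mul_assoc, hw]

theorem matOf_scV (hw : w * w = w + 1) {c : ℕ} (hc : c < 4) {A : List Vc} (hA : A.length = 27) :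
    matOf w (A.map (scV c)) = E62Fi22.tval w c • matOf w A := by
  ext i k
  show dec w ((A.map (scV c)).getD (E62Fi22.pos k) (0, 0)) (E62Fi22.pos i) = _
  rw [E62Fi22.getD_map _ (by rw [hA]; exact E62Fi22.pos_lt k), dec_scV hw hc]
  rfl

/-- the value of two bits -/
def valB (w : K) (e : Bool × Bool) : K := bitv e.1 + bitv e.2 * w

theorem valB_xor (a b : Bool × Bool) : valB w (xorP a b) = valB w a + valB w b := by
  simp only [valB, xorP, bitv_xor]
  ring

theorem valB_inj (hw : w * w = w + 1) {a b : Bool × Bool} (h : valB w a = valB w b) : a = b := by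
  have hw0 : w ≠ 0 := by
    intro e
    rw [e] at hw
    simp at hw
  have hw1 : w ≠ 1 := by
    intro e
    rw [e, CharTwo.add_self_eq_zero] at hw
    simp at hw
  have h' : valB w (xorP a b) = 0 := by rw [valB_xor, h, CharTwo.add_self_eq_zero]
  obtain ⟨a1, a2⟩ := a
  obtain ⟨b1, b2⟩ := b
  cases a1 <;> cases a2 <;> cases b1 <;> cases b2 <;> simp [valB, xorP, bitv] at h' ⊢ <;>
    first
      | exact hw0 h'
      | exact hw1 (CharTwo.add_eq_zero.1 h').symm

theorem matOf_entry (A : List Vc) {p k : ℕ} (hp : p < 27) (hk : k < 27) :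
    matOf w A (cd p) (cd k) = valB w (entryC A p k) := by
  show dec w (A.getD (E62Fi22.pos (cd k)) (0, 0)) (E62Fi22.pos (cd p)) = _
  rw [E62Fi22.pos_cd hp, E62Fi22.pos_cd hk]
  rfl

theorem neqC_sound (hw : w * w = w + 1) {A B : List Vc} (h : neqC A B = true) : matOf w A ≠ matOf w B := by
  obtain ⟨k, hk, hd⟩ := List.any_eq_true.1 h
  rw [List.mem_range] at hk
  intro e
  have he : ∀ p < 27, entryC A p k = entryC B p k := fun p hp =>
    valB_inj hw (by rw [← matOf_entry A hp hk, ← matOf_entry B hp hk, e])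
  have key : ∀ u v : ℕ, (∀ p < 27, u.testBit p = v.testBit p) → u % 134217728 = v % 134217728 := by
    intro u v huv
    refine Nat.eq_of_testBit_eq fun p => ?_
    rw [show (134217728 : ℕ) = 2 ^ 27 by norm_num, Nat.testBit_mod_two_pow, Nat.testBit_mod_two_pow]
    by_cases hp : p < 27
    · rw [huv p hp]
    · simp [hp]
  have h1 := key _ _ fun p hp => congrArg Prod.fst (he p hp)
  have h2 := key _ _ fun p hp => congrArg Prod.snd (he p hp)
  simp only [neqV, h1, h2, Nat.beq_refl, Bool.and_self, Bool.not_true] at hd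
  exact Bool.noConfusion hd

/-- a matrix of pairs -/
def pmat (L : List (ℕ × ℕ)) : Matrix ι ι K := (L.map fun e => Matrix.single (cd e.1) (cd e.2) 1).sum

theorem pmat_apply (L : List (ℕ × ℕ)) (b c : ι) :
    (pmat L : Matrix ι ι K) b c = (L.map fun e => bs K b (cd e.1) * bs K c (cd e.2)).sum := by
  induction L with
  | nil => simp [pmat]
  | cons e L ih =>
    rw [pmat, List.map_cons, List.sum_cons, Matrix.add_apply, List.map_cons, List.sum_cons]
    refine congrArg₂ (· + ·) ?_ ih
    by_cases h1 : cd e.1 = b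
    · by_cases h2 : cd e.2 = c
      · simp [h1, h2]
      · simp [h1, h2, Matrix.single_apply]
    · simp [h1, Matrix.single_apply]

theorem mon_facts : (monN.all fun m => decide (m.1 < 27 ∧ m.2.1 < 27 ∧ m.2.2.1 < 27 ∧ m.2.2.2 % 2 = 1)) = true := by
  decide +kernel

/-- the six orders of a monomial -/
def ordersOf (m : ℕ × ℕ × ℕ × ℤ) : List (ℕ × ℕ × ℕ) :=
  let a := m.1
  let b := m.2.1
  let c := m.2.2.1
  [(a, b, c), (a, c, b), (b, a, c), (b, c, a), (c, a, b), (c, b, a)]

theorem qN_eq (i : ℕ) : qN i =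
    monN.flatMap fun m => ((ordersOf m).filter fun t => Nat.beq t.1 i).map fun t => t.2 := rfl

theorem filter_orders (i : ℕ) (hi : i < 27) (b c : ι) : ∀ L : List (ℕ × ℕ × ℕ), (∀ t ∈ L, t.1 < 27) →
    (((L.filter fun t => Nat.beq t.1 i).map fun t => t.2).map
        fun e => bs K b (cd e.1) * bs K c (cd e.2)).sum =
      (L.map fun t => bs K (cd i) (cd t.1) * bs K b (cd t.2.1) * bs K c (cd t.2.2)).sum
  | [], _ => rfl
  | t :: L, h => by
    have ih := filter_orders i hi b c L fun u hu => h u (List.mem_cons_of_mem _ hu)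
    by_cases e : t.1 = i
    · rw [List.filter_cons_of_pos (by simp [e]), List.map_cons, List.map_cons, List.sum_cons, List.map_cons,
        List.sum_cons, ih, e]
      simp
    · rw [List.filter_cons_of_neg (by simpa using e), List.map_cons, List.sum_cons, ih,
        show bs K (cd i) (cd t.1) = 0 from
          Pi.single_eq_of_ne (fun h' => e (cd_inj (h t List.mem_cons_self) hi h')) _]
      simp

theorem qm_pairs {i : ℕ} (hi : i < 27) : (Qm (bs K (cd i)) : Matrix ι ι K) = pmat (qN i) := by
  ext b c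
  rw [pmat_apply, show Qm (bs K (cd i)) b c = QB (bs K (cd i)) (bs K b) (bs K c) from rfl, qb_num, qN_eq]
  have hm : ∀ m ∈ monN, m.1 < 27 ∧ m.2.1 < 27 ∧ m.2.2.1 < 27 ∧ (m.2.2.2 : K) = 1 := fun m hm => by
    obtain ⟨h1, h2, h3, h4⟩ := of_decide_eq_true (List.all_eq_true.1 mon_facts m hm)
    exact ⟨h1, h2, h3, E62Fi22.odd_cast h4⟩
  generalize monN = L at hm ⊢
  induction L with
  | nil => rfl
  | cons m L ih =>
    obtain ⟨h1, h2, h3, h4⟩ := hm m List.mem_cons_self
    rw [List.map_cons, List.sum_cons, ih fun n hn => hm n (List.mem_cons_of_mem _ hn), List.flatMap_cons,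
      List.map_append, List.sum_append]
    refine congrArg (· + _) ?_
    rw [filter_orders i hi b c _ (by simp [ordersOf, h1, h2, h3]), h4, one_mul]
    simp only [ordersOf, List.map_cons, List.map_nil, List.sum_cons, List.sum_nil, cn]
    ring

theorem Fm_pmat : ∀ L : List (ℕ × ℕ), (∀ e ∈ L, e.1 < 27) →
    (Fm : Matrix ι ι K) * pmat L = pmat (L.map fun e => (flipN e.1, e.2))
  | [], _ => by simp [pmat]
  | e :: L, h => by
    have ih := Fm_pmat L fun u hu => h u (List.mem_cons_of_mem _ hu)
    simp only [pmat, List.map_cons, List.sum_cons] at ih ⊢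
    rw [Matrix.mul_add, ih]
    refine congrArg (· + _) ?_
    have hflipcd : cd (flipN e.1) = hflip (cd e.1) := by
      rw [← E62Fi22.cd_pos (hflip (cd e.1)), pos_hflip, E62Fi22.pos_cd (h e List.mem_cons_self)]
    ext a b
    rw [Fm_mul, Matrix.single_apply, Matrix.single_apply, hflipcd]
    refine if_congr (and_congr_left' ⟨fun q => ?_, fun q => ?_⟩) rfl rfl
    · rw [q, hflip_hflip]
    · rw [← q, hflip_hflip]

theorem pmat_mul : ∀ L M : List (ℕ × ℕ), (∀ e ∈ L, e.2 < 27) → (∀ f ∈ M, f.1 < 27) →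
    (pmat L : Matrix ι ι K) * pmat M = pmat (joinP L M)
  | [], M, _, _ => by simp [pmat, joinP]
  | e :: L, M, hL, hM => by
    have ih := pmat_mul L M (fun u hu => hL u (List.mem_cons_of_mem _ hu)) hM
    simp only [pmat, joinP, List.map_cons, List.sum_cons, List.flatMap_cons, List.map_append,
      List.sum_append] at ih ⊢
    rw [Matrix.add_mul, ih]
    refine congrArg (· + _) ?_
    clear ih
    induction M with
    | nil => simp
    | cons f M ihM =>
      have := ihM fun u hu => hM u (List.mem_cons_of_mem _ hu)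
      rw [List.map_cons, List.sum_cons, Matrix.mul_add, this]
      by_cases q : f.1 = e.2
      · rw [List.filter_cons_of_pos (by simp [q]), List.map_cons, List.map_cons, List.sum_cons, q,
          Matrix.single_mul_single_same, one_mul]
      · rw [List.filter_cons_of_neg (by simpa using q), Matrix.single_mul_single_of_ne _ _ _ _
          (fun h' => q (cd_inj (hM f List.mem_cons_self) (hL e List.mem_cons_self) h'.symm)), zero_add]

theorem trace_pmat (X : Matrix ι ι K) : ∀ L : List (ℕ × ℕ),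
    Matrix.trace (pmat L * X) = (L.map fun e => X (cd e.2) (cd e.1)).sum
  | [] => by simp [pmat]
  | e :: L => by
    have ih := trace_pmat X L
    simp only [pmat, List.map_cons, List.sum_cons] at ih ⊢
    rw [Matrix.add_mul, Matrix.trace_add, ih]
    refine congrArg (· + _) ?_
    simp [Matrix.trace, Matrix.mul_apply, Matrix.single_apply, ite_and]

theorem qTab_bound : (qTab.all fun L => L.all fun e => Nat.blt e.1 27 && Nat.blt e.2 27) = true := by
  decide +kernel

theorem qTab_lt {i : ℕ} {e : ℕ × ℕ} (he : e ∈ qTab.getD i []) : e.1 < 27 ∧ e.2 < 27 := by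
  rcases lt_or_ge i qTab.length with h | h
  · rw [List.getD_eq_getElem?_getD, List.getElem?_eq_getElem h, Option.getD_some] at he
    have := List.all_eq_true.1 (List.all_eq_true.1 qTab_bound _ (List.getElem_mem h)) e he
    simpa using this
  · rw [List.getD_eq_getElem?_getD, List.getElem?_eq_none h] at he
    simp at he

theorem qm_table {i : ℕ} (hi : i < 27) : (Qm (bs K (cd i)) : Matrix ι ι K) = pmat (qTab.getD i []) := by
  rw [qm_pairs hi, of_decide_eq_true (List.all_eq_true.1 qTab_true i (List.mem_range.2 hi))]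

theorem valB_sum (f : ℕ × ℕ → Bool × Bool) : ∀ L : List (ℕ × ℕ),
    valB w (L.foldr (fun e r => xorP (f e) r) (false, false)) = (L.map fun e => valB w (f e)).sum
  | [] => by simp [valB, bitv]
  | e :: L => by rw [List.foldr_cons, valB_xor, valB_sum f L, List.map_cons, List.sum_cons]

theorem flipN_lt {k : ℕ} (hk : k < 27) : flipN k < 27 := by
  rw [← E62Fi22.pos_cd hk, ← pos_hflip]
  exact E62Fi22.pos_lt _

/-- the operator of a matrix given by columns -/
theorem kop_entry (X : List Vc) {i j : ℕ} (hi : i < 27) (hj : j < 27) :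
    kop (matOf w X) (cd i) (cd j) = valB w (opEntry X i j) := by
  set L := (qTab.getD (flipN i) []).map fun e => (flipN e.1, e.2) with hLdef
  set M := (qTab.getD j []).map fun e => (flipN e.1, e.2) with hMdef
  have hL : ∀ e ∈ L, e.1 < 27 ∧ e.2 < 27 := fun e he => by
    obtain ⟨u, hu, rfl⟩ := List.mem_map.1 he
    exact ⟨flipN_lt (qTab_lt hu).1, (qTab_lt hu).2⟩
  have hM : ∀ e ∈ M, e.1 < 27 ∧ e.2 < 27 := fun e he => by
    obtain ⟨u, hu, rfl⟩ := List.mem_map.1 he
    exact ⟨flipN_lt (qTab_lt hu).1, (qTab_lt hu).2⟩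
  have hcj : cjM (Qm (bs K (cd (flipN i))) : Matrix ι ι K) = Qm (bs K (cd (flipN i))) := by
    ext b c
    exact qm_int _ _ _ (bs_fixed _)
  have hfl : hflip (cd i) = cd (flipN i) := by
    rw [← E62Fi22.cd_pos (hflip (cd i)), pos_hflip, E62Fi22.pos_cd hi]
  rw [kop, formX, hfl, hcj, qm_table (flipN_lt hi), qm_table hj, Fm_pmat _ fun e he => (qTab_lt he).1,
    Matrix.mul_assoc (pmat _) Fm, Fm_pmat _ fun e he => (qTab_lt he).1,
    pmat_mul _ _ (fun e he => (hL e he).2) (fun e he => (hM e he).1), trace_pmat, opEntry, pairsEntry, valB_sum]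
  refine congrArg List.sum (List.map_congr_left fun e he => ?_)
  obtain ⟨u, hu, hu'⟩ := List.mem_flatMap.1 he
  obtain ⟨v, hv, rfl⟩ := List.mem_map.1 hu'
  exact matOf_entry X (hM v (List.mem_filter.1 hv).1).2 (hL u hu).1

theorem kop_table (hw : w * w = w + 1) {n : ℕ} (hn : n < 9) :
    kop (matOf w (tabC (41 + expQ.getD n 0))) = matOf w (kTab.getD n (scRows id)) := by
  ext a b
  rw [← E62Fi22.cd_pos a, ← E62Fi22.cd_pos b, kop_entry _ (E62Fi22.pos_lt a) (E62Fi22.pos_lt b),
    matOf_entry _ (E62Fi22.pos_lt a) (E62Fi22.pos_lt b),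
    opEntry, of_decide_eq_true (List.all_eq_true.1 (List.all_eq_true.1 (List.all_eq_true.1 ops_true _
      (List.mem_range.2 (E62Fi22.pos_lt a))) _ (List.mem_range.2 (E62Fi22.pos_lt b))) n (List.mem_range.2 hn))]

theorem trace_matOf (A : List Vc) : Matrix.trace (matOf w A) = valB w (trC A) := by
  have h : ∀ L : List ℕ, valB w (L.foldr (fun k r => xorP (entryC A k k) r) (false, false)) =
      (L.map fun k => valB w (entryC A k k)).sum := by
    intro L
    induction L with
    | nil => simp [valB, bitv]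
    | cons k L ih => rw [List.foldr_cons, valB_xor, ih, List.map_cons, List.sum_cons]
  rw [trC, h]
  show (∑ i, matOf w A i i) = _
  rw [← List.sum_toFinset _ List.nodup_range]
  refine Finset.sum_bij (fun i _ => E62Fi22.pos i) (fun i _ => by simp [E62Fi22.pos_lt i])
    (fun a _ b _ h => E62Fi22.pos_inj h)
    (fun n hn => ⟨cd n, Finset.mem_univ _, E62Fi22.pos_cd (by simpa using hn)⟩) fun i _ => ?_
  rw [← matOf_entry A (E62Fi22.pos_lt i) (E62Fi22.pos_lt i), E62Fi22.cd_pos]

end CfsgLib.Chev.E62Locals
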